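import Cfsg.Agent.SelfCentEight.Levels

/-!
A self-centralizing normal elementary abelian subgroup `E` of order sixteen, with an element whose centralizer
modulo `E` has order at most four and moves a subgroup of index four of `E`.
-/

set_option autoImplicit false
set_option linter.style.haveILetI false
set_option linter.unusedSectionVars false
set_option maxHeartbeats 400000

namespace Cfsg.Agent.SelfCentEight

open Subgroup
open scoped commutatorElement

variable {S : Type*} [Group S] {E : Subgroup S}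

theorem El.dd (hE : El E) (g : S) {u : S} (hu : u ∈ E) :
    g * g * u * (g * g)⁻¹ * u = g * (g * u * g⁻¹ * u) * g⁻¹ * (g * u * g⁻¹ * u) := by
  have h1 := hE.sq _ (hE.normal.conj_mem u hu g)
  calc g * g * u * (g * g)⁻¹ * u = g * g * u * (g * g)⁻¹ * (g * u * g⁻¹ * (g * u * g⁻¹)) * u := by
        rw [h1, mul_one]
    _ = _ := by group

/-- the group acts on `E` with exponent four -/
theorem El.pow_four_mem [Finite S] (hE : El E) (hP : IsPGroup 2 S) (hcard : Nat.card E = 16)
    (hCE : centralizer (E : Set S) ≤ E) (g : S) : g ^ 4 ∈ E := by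
  haveI := hE.normal
  haveI : Fact (Nat.Prime 2) := ⟨Nat.prime_two⟩
  obtain ⟨L1, h1n, -, h1E, h1c, h1m⟩ := Fusion.exists_normal_card_succ hP (⊥ : Subgroup S) E
    (bot_lt_iff_ne_bot.2 fun e => by rw [e, card_bot] at hcard; omega)
  rw [card_bot] at h1c
  obtain ⟨L2, h2n, -, h2E, h2c, h2m⟩ := Fusion.exists_normal_card_succ hP L1 E
    (lt_of_le_of_ne h1E fun e => by rw [e, hcard] at h1c; omega)
  obtain ⟨L3, h3n, -, h3E, h3c, h3m⟩ := Fusion.exists_normal_card_succ hP L2 E
    (lt_of_le_of_ne h2E fun e => by rw [e, hcard] at h2c; omega)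
  obtain ⟨L4, h4n, -, h4E, h4c, h4m⟩ := Fusion.exists_normal_card_succ hP L3 E
    (lt_of_le_of_ne h3E fun e => by rw [e, hcard] at h3c; omega)
  have h4 : L4 = E := eq_of_le_of_card_ge h4E (by rw [h4c, h3c, h2c, h1c, hcard])
  have hd : ∀ (W V : Subgroup S), W ≤ E → ⁅W, (⊤ : Subgroup S)⁆ ≤ V → ∀ u ∈ W, g * u * g⁻¹ * u ∈ V := by
    intro W V hWE hle u hu
    have h1 := inv_mem (hle (commutator_mem_commutator hu (mem_top g)))
    rwa [commutatorElement_inv, commutatorElement_def, hE.inv_eq (hWE hu)] at h1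
  refine hCE (mem_centralizer_iff.2 fun e he => ?_)
  set d1 := g * e * g⁻¹ * e with hd1
  have m1 : d1 ∈ L3 := hd L4 L3 h4E h4m e (h4.ge he)
  set d2 := g * d1 * g⁻¹ * d1 with hd2
  have m2 : d2 ∈ L2 := hd L3 L2 h3E h3m _ m1
  set d3 := g * d2 * g⁻¹ * d2 with hd3
  have m3 : d3 ∈ L1 := hd L2 L1 h2E h2m _ m2
  have m4 : g * d3 * g⁻¹ * d3 = 1 := mem_bot.1 (hd L1 ⊥ h1E h1m _ m3)
  have key : g * g * (g * g) * e * (g * g * (g * g))⁻¹ * e = 1 := by
    rw [hE.dd (g * g) he, hE.dd g he, ← hd1, ← hd2, hE.dd g (h2E m2), ← hd3, m4]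
  rw [show g ^ 4 = g * g * (g * g) by rw [show 4 = 2 * 2 by norm_num, pow_mul, pow_two, pow_two]]
  exact (mul_inv_eq_iff_eq_mul.1 ((mul_eq_one_iff_eq_inv.1 key).trans (hE.inv_eq he))).symm

/-- elementary abelian sections have order at most sixteen -/
theorem good_four [Finite S] (hP : IsPGroup 2 S) (hE : El E) [E.Normal] (hcard : Nat.card E = 16)
    (hCE : centralizer (E : Set S) ≤ E) {a : S} (haE : a ∉ E)
    (hR : Nat.card (centralizer ({QuotientGroup.mk' E a} : Set (S ⧸ E))) ≤ 4)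
    (hfix : ∀ g : S, g ∉ E → QuotientGroup.mk' E g * QuotientGroup.mk' E a =
      QuotientGroup.mk' E a * QuotientGroup.mk' E g →
      Nat.card (E ⊓ centralizer ({g} : Set S) : Subgroup S) ≤ 4) :
    SecRankFour.Good (⊤ : Subgroup S) := by
  haveI : Fact (Nat.Prime 2) := ⟨Nat.prime_two⟩
  set π := QuotientGroup.mk' E with hπ
  set R := centralizer ({π a} : Set (S ⧸ E)) with hRdef
  have hQ : IsPGroup 2 (S ⧸ E) := hP.to_quotient E
  have ha1 : π a ≠ 1 := fun e => haE ((QuotientGroup.eq_one_iff a).1 e)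
  have haR : π a ∈ R := mem_centralizer_singleton_iff.2 rfl
  have hR2 : 2 ≤ Nat.card R := two_le_card haR ha1
  have hsmall : Nat.card R = 2 → Nat.card (S ⧸ E) = 2 := by
    intro h2
    haveI : Nontrivial (S ⧸ E) := ⟨⟨π a, 1, ha1⟩⟩
    haveI := hQ.center_nontrivial
    obtain ⟨c, hc, hc1⟩ := (center (S ⧸ E)).bot_or_exists_ne_one.resolve_left
      ((nontrivial_iff_ne_bot _).1 inferInstance)
    have hcR : c ∈ R := mem_centralizer_singleton_iff.2 (mem_center_iff.1 hc (π a)).symm
    have hca : c = π a := by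
      by_contra hne
      have := four_le_card hQ hcR haR hc1 ha1 hne
      omega
    have htop : R = ⊤ := eq_top_iff.2 fun y _ => mem_centralizer_singleton_iff.2 (by
      rw [← hca]; exact mem_center_iff.1 hc y)
    rw [← h2, htop, card_top]
  have hG8 : Nat.card (S ⧸ E) ≤ 8 := by
    by_cases h2 : Nat.card R = 2
    · rw [hsmall h2]
      norm_num
    have h4 : Nat.card R = 4 := by
      obtain ⟨k, hk⟩ := exists_card_pow hQ R
      rw [hk] at h2 hR hR2 ⊢
      rcases k with _ | _ | _ | k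
      · norm_num at hR2
      · norm_num at h2
      · rfl
      · have : 2 ^ 3 ≤ 2 ^ (k + 3) := Nat.pow_le_pow_right (by norm_num) (by omega)
        omega
    rcases MaxClass.mc_of_centralizer hQ (π a) h4 with e | hmc
    · omega
    obtain ⟨m, r, b, -, hm, hcQ, hr, -⟩ := hmc.data
    obtain ⟨g, rfl⟩ := QuotientGroup.mk'_surjective E r
    have h1 : 2 ^ m ≤ 2 ^ 2 := by
      rw [← hr]
      refine Nat.le_of_dvd (by norm_num) (orderOf_dvd_of_pow_eq_one ?_)
      rw [← map_pow]
      exact (QuotientGroup.eq_one_iff _).2 (hE.pow_four_mem hP hcard hCE g)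
    have : 2 ^ (m + 1) ≤ 8 := by rw [pow_succ]; omega
    omega
  intro K N _ hNK hn hsq
  have hs : Sec K N := ⟨hNK, hn, hsq⟩
  have hY : Nat.card ((K ⊓ E).map π) ≤ 1 * Nat.card ((N ⊓ E).map π) := by
    have : (K ⊓ E).map π = ⊥ := by
      rw [eq_bot_iff]
      rintro _ ⟨g, hg, rfl⟩
      exact (QuotientGroup.eq_one_iff g).2 hg.2
    rw [this, card_bot, one_mul]
    exact Nat.card_pos
  have hNpos : 0 < Nat.card (N.map π) := Nat.card_pos
  have hEpos : 0 < Nat.card (N ⊓ E : Subgroup S) := Nat.card_pos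
  have hX16 : Nat.card (K ⊓ E : Subgroup S) ≤ 16 := hcard ▸ card_le_of_le inf_le_right
  have hXE : ¬ E ≤ K → Nat.card (K ⊓ E : Subgroup S) ≤ 8 := fun hne => by
    by_contra hlt
    push Not at hlt
    have h2 := double_of_lt hP (H := K ⊓ E) (H' := (⊥ : Subgroup S)) (k := 3) (by simpa using hlt)
    simp only [card_bot, mul_one] at h2
    exact hne (inf_eq_right.1 (eq_of_le_of_card_ge inf_le_right (by rw [hcard]; exact h2)))
  by_cases hKle : K ≤ E
  · refine card_le_of_layers (C := E) le_rfl (i := 1) (j := 1) (l := 16) (by norm_num) ?_ hY (by omega)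
    have : K.map π = ⊥ := by
      rw [eq_bot_iff]
      rintro _ ⟨g, hg, rfl⟩
      exact (QuotientGroup.eq_one_iff g).2 (hKle hg)
    rw [one_mul, this, card_bot]
    exact hNpos
  obtain ⟨k₀, hk₀, hk₀E⟩ := SetLike.not_le_iff_exists.1 hKle
  by_cases hK2 : Nat.card (K.map π) ≤ 2 * Nat.card (N.map π)
  · refine card_le_of_layers (C := E) le_rfl (i := 2) (j := 1) (l := 8) (by norm_num) hK2 hY ?_
    rcases move hE hs hk₀ (fun hh => hk₀E (hCE hh)) with hne | ⟨z, hz, hz1⟩
    · have := hXE hne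
      omega
    · have := two_le_card hz hz1
      omega
  have hK4 : Nat.card (K.map π) ≤ 4 * Nat.card (N.map π) := by
    by_contra hlt
    push Not at hlt
    have h8 : 8 * Nat.card (N.map π) ≤ Nat.card (K.map π) :=
      double_of_lt hQ (H := K.map π) (H' := N.map π) (k := 2) hlt
    have hKG : Nat.card (K.map π) ≤ Nat.card (S ⧸ E) := card_le_card_group _
    have hKtop : K.map π = ⊤ := eq_top_of_card_eq _ (by omega)
    have hNbot : N.map π = ⊥ := eq_bot_of_card_eq _ (by omega)
    have htop : R = ⊤ := eq_top_iff.2 fun y _ => by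
      obtain ⟨k1, hk1, rfl⟩ : y ∈ K.map π := hKtop ▸ mem_top _
      obtain ⟨k2, hk2, e⟩ : π a ∈ K.map π := hKtop ▸ mem_top _
      refine mem_centralizer_singleton_iff.2 ?_
      rw [← e]
      have h1 : π (k1 * k2 * k1⁻¹ * k2⁻¹) ∈ N.map π := mem_map_of_mem _ (hs.comm hk1 hk2)
      rw [hNbot, mem_bot, map_mul, map_mul, map_mul, map_inv, map_inv] at h1
      exact mul_inv_eq_iff_eq_mul.1 (mul_inv_eq_one.1 h1)
    rw [htop, card_top] at hR
    omega
  -- an element of `K` outside `E` fixing only four elements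
  obtain ⟨k, hk, hkE, hk4⟩ : ∃ k ∈ K, k ∉ E ∧ Nat.card (E ⊓ centralizer ({k} : Set S) : Subgroup S) ≤ 4 := by
    have hKge : 4 ≤ Nat.card (K.map π) := by
      have := double_of_lt hQ (H := K.map π) (H' := N.map π) (k := 1) (by omega)
      omega
    have hne : (K.map π ⊓ R : Subgroup (S ⧸ E)) ≠ ⊥ := by
      intro e
      have hinj : Function.Injective (fun u : ↥(K.map π) × ↥R => (u.1 : S ⧸ E) * u.2) :=
        mul_injective_of_disjoint (disjoint_iff.2 e)
      have h1 := Nat.card_le_card_of_injective _ hinj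
      rw [Nat.card_prod] at h1
      have h3 := Nat.mul_le_mul hKge hR2
      by_cases h2 : Nat.card R = 2
      · have := hsmall h2
        omega
      · have h4 := Nat.mul_le_mul hKge (show 3 ≤ Nat.card R by omega)
        omega
    obtain ⟨u, hu, hu1⟩ := (K.map π ⊓ R).bot_or_exists_ne_one.resolve_left hne
    obtain ⟨k, hk, rfl⟩ := hu.1
    have hkE : k ∉ E := fun hh => hu1 ((QuotientGroup.eq_one_iff k).2 hh)
    exact ⟨k, hk, hkE, hfix k hkE (mem_centralizer_singleton_iff.1 hu.2)⟩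
  refine card_le_of_layers (C := E) le_rfl (i := 4) (j := 1) (l := 4) (by norm_num) hK4 hY ?_
  by_cases hEK : E ≤ K
  · have h1 := hE.dE_card k
    have h2 : Nat.card (hE.dE k).range ≤ Nat.card (N ⊓ E : Subgroup S) := by
      refine Nat.card_le_card_of_injective (fun u => ⟨(u.1 : S), ?_⟩) fun u u' e => ?_
      · obtain ⟨⟨v, hv⟩, f, hf⟩ := u
        rw [← congrArg Subtype.val hf]
        exact hs.disp hE hk (hEK f.2) f.2
      · exact Subtype.ext (Subtype.ext (congrArg Subtype.val e :))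
    have h3 := Nat.mul_le_mul h2 hk4
    omega
  · have h8 := hXE hEK
    by_cases h4 : Nat.card (K ⊓ E : Subgroup S) ≤ 4
    · omega
    obtain ⟨e, he, hne⟩ := SetLike.not_le_iff_exists.1
      (fun hle : K ⊓ E ≤ E ⊓ centralizer ({k} : Set S) => h4 ((card_le_of_le hle).trans hk4))
    have hz : k * e * k⁻¹ * e ≠ 1 := fun hh => hne ⟨he.2, mem_centralizer_singleton_iff.2
      (mul_inv_eq_iff_eq_mul.1 ((mul_eq_one_iff_eq_inv.1 hh).trans (hE.inv_eq he.2))).symm⟩
    have := two_le_card (hs.disp hE hk he.1 he.2) hz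
    omega

end Cfsg.Agent.SelfCentEight
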