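import Cfsg.Agent.SelfCentEight.Inverted
import Cfsg.Agent.SelfCentEight.Four

/-!
A 2-group with a self-centralizing elementary abelian subgroup `A` of order eight and a maximal normal elementary
abelian subgroup `E` of order at least eight.
-/

set_option autoImplicit false
set_option linter.style.haveILetI false
set_option linter.unusedSectionVars false
set_option maxHeartbeats 400000

namespace Cfsg.Agent.SelfCentEight

open Subgroup
open scoped commutatorElement

variable {S : Type*} [Group S]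

/-- the standing hypotheses, with `E` not equal to `A` -/
structure Pair (A E : Subgroup S) (z : S) : Prop where
  two : IsPGroup 2 S
  A2 : ∀ b ∈ A, b * b = 1
  A8 : Nat.card A = 8
  hCA : ∀ y : S, (∀ b ∈ A, y * b = b * y) → y ∈ A
  el : El E
  E8 : 8 ≤ Nat.card E
  max : ∀ x ∈ centralizer (E : Set S), x * x = 1 → (∀ g : S, g * x * g⁻¹ * x⁻¹ ∈ E) → x ∈ E
  hne : ¬ A ≤ centralizer (E : Set S)
  zE : z ∈ E
  z1 : z ≠ 1
  zc : ∀ g : S, g * z = z * g

namespace Pair

variable {A E : Subgroup S} {z : S}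

section

variable (h : Pair A E z)
include h

theorem zA : z ∈ A := h.hCA z fun b _ => (h.zc b).symm

theorem A_inv {b : S} (hb : b ∈ A) : b⁻¹ = b := inv_eq_of_mul_eq_one_right (h.A2 b hb)

theorem A_comm {b c : S} (hb : b ∈ A) (hc : c ∈ A) : b * c = c * b := by
  have h1 := inv_eq_of_mul_eq_one_right (h.A2 _ (mul_mem hb hc))
  rw [mul_inv_rev, h.A_inv hb, h.A_inv hc] at h1
  exact h1.symm

theorem fixed_bound [Finite S] {a : S} (ha : a ∈ A) :
    Nat.card E ≤ Nat.card (E ⊓ centralizer ({a} : Set S) : Subgroup S) *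
      Nat.card (E ⊓ centralizer ({a} : Set S) : Subgroup S) := by
  rw [← h.el.dE_card a]
  exact Nat.mul_le_mul_right _ (h.el.dE_range_le (by rw [h.A2 a ha]; exact one_mem _))

/-- the intersection with the centralizer lies in `E` -/
theorem inf_eq [Finite S] : (A ⊓ centralizer (E : Set S) : Subgroup S) = A ⊓ E := by
  refine le_antisymm (fun b hb => ⟨hb.1, ?_⟩) (inf_le_inf le_rfl h.el.le_centralizer)
  set H := A ⊓ centralizer (E : Set S) with hH
  have hzH : z ∈ H := ⟨h.zA, h.el.le_centralizer h.zE⟩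
  have hH8 : Nat.card H ≠ 8 := fun e => h.hne (inf_eq_left.1 (eq_of_le_of_card_ge inf_le_left
    (by rw [e, h.A8])))
  by_cases hbz : b = 1 ∨ b = z
  · rcases hbz with rfl | rfl
    exacts [E.one_mem, h.zE]
  push Not at hbz
  have h4 := four_le_card h.two hzH hb h.z1 hbz.1 (Ne.symm hbz.2)
  have hle := card_le_of_le (inf_le_left : H ≤ A)
  obtain ⟨k, hk⟩ := exists_card_pow h.two H
  have hk4 : Nat.card H = 4 := by
    rw [hk] at h4 hle hH8 ⊢
    rw [h.A8] at hle
    rcases k with _ | _ | _ | _ | k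
    · norm_num at h4
    · norm_num at h4
    · rfl
    · norm_num at hH8
    · have : 2 ^ 4 ≤ 2 ^ (k + 4) := Nat.pow_le_pow_right (by norm_num) (by omega)
      omega
  obtain ⟨a, ha, haH⟩ := SetLike.not_le_iff_exists.1 (fun hle' : A ≤ H => by
    have := card_le_of_le hle'
    rw [h.A8, hk4] at this
    omega)
  have hidx : (H.subgroupOf A).index = 2 := by
    have h1 := (H.subgroupOf A).card_mul_index
    rw [Nat.card_congr (subgroupOfEquivOfLe inf_le_left).toEquiv, hk4, h.A8] at h1
    omega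
  have hF : E ⊓ centralizer ({a} : Set S) ≤ A ⊓ E := fun f hf => ⟨h.hCA f fun c hc => by
    by_cases hcH : c ∈ H
    · exact (El.C_comm hcH.2 hf.1).symm
    · have h1 : a * c ∈ H :=
        (mul_mem_iff_of_index_two hidx (a := ⟨a, ha⟩) (b := ⟨c, hc⟩)).2 (by simp [mem_subgroupOf, haH, hcH])
      have e1 : Commute f a := mem_centralizer_singleton_iff.1 hf.2
      have e2 : Commute f (a * c) := (El.C_comm h1.2 hf.1).symm
      have e3 := e1.inv_right.mul_right e2
      rwa [inv_mul_cancel_left] at e3, hf.1⟩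
  have hb1 := h.fixed_bound ha
  have hE8 := h.E8
  have h3 := card_le_of_le hF
  have heq : A ⊓ E = H := eq_of_le_of_card_ge (inf_le_inf le_rfl h.el.le_centralizer) (by
    rw [hk4]
    obtain ⟨j, hj⟩ := exists_card_pow h.two (A ⊓ E)
    rw [hj] at h3 ⊢
    rcases j with _ | _ | j
    · have := Nat.mul_le_mul h3 h3
      omega
    · have := Nat.mul_le_mul h3 h3
      omega
    · exact Nat.pow_le_pow_right (n := 2) (by norm_num) (show 2 ≤ j + 1 + 1 by omega))
  exact (heq.ge hb).2

theorem mem_inf_of_fix [Finite S] {y : S} (hy : y ∈ centralizer (E : Set S)) (hyA : y ∈ A) : y ∈ E :=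
  (h.inf_eq.le ⟨hyA, hy⟩).2

theorem card_inf [Finite S] : Nat.card (A ⊓ E : Subgroup S) = 2 ∨ Nat.card (A ⊓ E : Subgroup S) = 4 := by
  have h2 := two_le_card (show z ∈ A ⊓ E from ⟨h.zA, h.zE⟩) h.z1
  have hle := card_le_of_le (inf_le_left : A ⊓ E ≤ A)
  have h8 : Nat.card (A ⊓ E : Subgroup S) ≠ 8 := fun e => h.hne
    ((inf_eq_left.1 (eq_of_le_of_card_ge inf_le_left (by rw [e, h.A8]))).trans h.el.le_centralizer)
  obtain ⟨k, hk⟩ := exists_card_pow h.two (A ⊓ E)
  rw [hk] at h2 hle h8 ⊢
  rw [h.A8] at hle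
  rcases k with _ | _ | _ | _ | k
  · norm_num at h2
  · exact Or.inl rfl
  · exact Or.inr rfl
  · norm_num at h8
  · have : 2 ^ 4 ≤ 2 ^ (k + 4) := Nat.pow_le_pow_right (by norm_num) (by omega)
    omega

/-- `A` is generated by its intersection with `E` and an element outside, when that has order four -/
theorem gen_one [Finite S] (h4 : Nat.card (A ⊓ E : Subgroup S) = 4) {a b : S} (ha : a ∈ A) (haE : a ∉ E)
    (hb : b ∈ A) : b ∈ E ∨ b * a ∈ E := by
  by_cases hbE : b ∈ E
  · exact Or.inl hbE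
  refine Or.inr ?_
  have hidx : ((A ⊓ E).subgroupOf A).index = 2 := by
    have h1 := ((A ⊓ E).subgroupOf A).card_mul_index
    rw [Nat.card_congr (subgroupOfEquivOfLe inf_le_left).toEquiv, h4, h.A8] at h1
    omega
  exact ((mul_mem_iff_of_index_two hidx (a := ⟨b, hb⟩) (b := ⟨a, ha⟩)).2
    (by simp [mem_subgroupOf, hbE, haE]) : (b * a : S) ∈ A ⊓ E).2

/-- an element commuting with a generating set of `A` lies in `A` -/
theorem mem_A_one [Finite S] (h4 : Nat.card (A ⊓ E : Subgroup S) = 4) {a y : S} (ha : a ∈ A) (haE : a ∉ E)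
    (hya : y * a = a * y) (hyF : ∀ f ∈ A ⊓ E, y * f = f * y) : y ∈ A := by
  refine h.hCA y fun b hb => ?_
  rcases h.gen_one h4 ha haE hb with hbE | hbE
  · exact hyF b ⟨hb, hbE⟩
  · have e1 : Commute y (b * a) := hyF _ ⟨mul_mem hb ha, hbE⟩
    have e2 := e1.mul_right (Commute.inv_right (show Commute y a from hya))
    rwa [mul_inv_cancel_right] at e2

theorem inf_two_cases [Finite S] (h2 : Nat.card (A ⊓ E : Subgroup S) = 2) {f : S} (hf : f ∈ A ⊓ E) :
    f = 1 ∨ f = z := by
  by_contra hne
  push Not at hne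
  have := four_le_card h.two hf (show z ∈ A ⊓ E from ⟨h.zA, h.zE⟩) hne.1 h.z1 hne.2
  omega

theorem exists_second [Finite S] (h2 : Nat.card (A ⊓ E : Subgroup S) = 2) {a : S} (ha : a ∈ A) :
    ∃ b ∈ A, b ∉ E ∧ b * a ∉ E := by
  by_contra hno
  push Not at hno
  have hle : Nat.card A ≤ 2 * Nat.card (A ⊓ E : Subgroup S) :=
    MacWilliams.card_le_double fun b hb hbE c hc hcE => by
      have h1 := mul_mem (hno b hb hbE) (hno c hc hcE)
      rwa [show b * a * (c * a) = b * (a * c) * a by group, h.A_comm ha hc,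
        show b * (c * a) * a = b * c * (a * a) by group, h.A2 a ha, mul_one] at h1
  rw [h.A8, h2] at hle
  omega

/-- `A` is generated by the involution in `E` and two elements independent modulo `E` -/
theorem gen_two [Finite S] (h2 : Nat.card (A ⊓ E : Subgroup S) = 2) {a b : S} (ha : a ∈ A) (haE : a ∉ E)
    (hb : b ∈ A) (hbE : b ∉ E) (hab : b * a ∉ E) {d : S} (hd : d ∈ A) :
    d ∈ E ∨ d * a ∈ E ∨ d * b ∈ E ∨ d * (b * a) ∈ E := by
  haveI := h.el.normal
  set π := QuotientGroup.mk' E with hπ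
  have hcard : Nat.card (A.map π) = 4 := by
    have h1 := card_map_mul E A
    rw [h.A8, h2, ← hπ] at h1
    omega
  have n1 : ∀ u : S, u ∉ E → π u ≠ 1 := fun u hu e => hu ((QuotientGroup.eq_one_iff u).1 e)
  have hne : π b ≠ π a := fun e => hab (by
    have h1 := QuotientGroup.eq.1 e
    rwa [h.A_inv hb] at h1)
  have key : ∀ u v : S, v ∈ A → π u = π v → u * v ∈ E := fun u v hv e => by
    rw [← QuotientGroup.eq_one_iff (N := E)]
    show π (u * v) = 1
    rw [map_mul, e, ← map_mul, h.A2 v hv, map_one]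
  rcases eq_of_card_four hcard (mem_map_of_mem π hb) (mem_map_of_mem π ha) (n1 b hbE) (n1 a haE) hne
    (by rw [← map_mul]; exact n1 _ hab) (mem_map_of_mem π hd) with e | e | e | e
  · exact Or.inl ((QuotientGroup.eq_one_iff d).1 e)
  · exact Or.inr (Or.inr (Or.inl (key d b hb e)))
  · exact Or.inr (Or.inl (key d a ha e))
  · exact Or.inr (Or.inr (Or.inr (key d (b * a) (mul_mem hb ha) (e.trans (map_mul π b a).symm))))

theorem mem_A_two [Finite S] (h2 : Nat.card (A ⊓ E : Subgroup S) = 2) {a b y : S} (ha : a ∈ A) (haE : a ∉ E)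
    (hb : b ∈ A) (hbE : b ∉ E) (hab : b * a ∉ E) (hya : y * a = a * y) (hyb : y * b = b * y) : y ∈ A := by
  refine h.hCA y fun d hd => ?_
  have hz : ∀ u ∈ A, u ∈ E → Commute y u := fun u huA huE => by
    rcases h.inf_two_cases h2 ⟨huA, huE⟩ with rfl | rfl
    exacts [Commute.one_right y, h.zc y]
  have hA : ∀ v ∈ A, Commute y v → d * v ∈ E → Commute y d := fun v hv cv hdv => by
    have := (hz _ (mul_mem hd hv) hdv).mul_right cv.inv_right
    rwa [mul_inv_cancel_right] at this
  rcases h.gen_two h2 ha haE hb hbE hab hd with e | e | e | e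
  · exact hz d hd e
  · exact hA a ha hya e
  · exact hA b hb hyb e
  · exact hA _ (mul_mem hb ha) ((show Commute y b from hyb).mul_right hya) e

theorem fix4 [Finite S] {a : S} (ha : a ∈ A) (haE : a ∉ E) :
    Nat.card (E ⊓ centralizer ({a} : Set S) : Subgroup S) = 4 := by
  set F := E ⊓ centralizer ({a} : Set S) with hF
  have hb := h.fixed_bound ha
  have hE8 := h.E8
  suffices hle : Nat.card F ≤ 4 by
    obtain ⟨k, hk⟩ := exists_card_pow h.two F
    rw [← hF, hk] at hb
    rw [hk] at hle ⊢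
    rcases k with _ | _ | _ | k
    · norm_num at hb; omega
    · norm_num at hb; omega
    · rfl
    · have := Nat.pow_le_pow_right (show 0 < 2 by norm_num) (show 3 ≤ k + 1 + 1 + 1 by omega)
      omega
  rcases h.card_inf with h2 | h4
  · obtain ⟨b, hb, hbE, hab⟩ := h.exists_second h2 ha
    let r := (h.el.dE b).comp (inclusion (inf_le_left : F ≤ E))
    have h1 := r.ker.card_mul_index
    rw [index_ker] at h1
    have hfix : ∀ f ∈ E, f * a = a * f → f * b = b * f → f = 1 ∨ f = z := fun f hf hfa hfb =>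
      h.inf_two_cases h2 ⟨h.mem_A_two h2 ha haE hb hbE hab hfa hfb, hf⟩
    have hk : Nat.card r.ker ≤ 2 := by
      rw [← h2]
      refine Nat.card_le_card_of_injective (fun u => ⟨(u.1 : S), ?_⟩) fun u u' e =>
        Subtype.ext (Subtype.ext (congrArg Subtype.val e :))
      obtain ⟨⟨f, hfE, hfa⟩, hu⟩ := u
      have e1 : b * f * b⁻¹ * f = 1 := congrArg Subtype.val (MonoidHom.mem_ker.1 hu)
      have hfb := (mul_inv_eq_iff_eq_mul.1 ((mul_eq_one_iff_eq_inv.1 e1).trans (h.el.inv_eq hfE))).symm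
      exact ⟨h.mem_A_two h2 ha haE hb hbE hab (mem_centralizer_singleton_iff.1 hfa) hfb, hfE⟩
    have hr : Nat.card r.range ≤ 2 := by
      rw [← h2]
      refine Nat.card_le_card_of_injective (fun u => ⟨(u.1 : S), ?_⟩) fun u u' e =>
        Subtype.ext (Subtype.ext (congrArg Subtype.val e :))
      obtain ⟨⟨v, hvE⟩, ⟨f, hfE, hfa⟩, hu⟩ := u
      have hv : b * f * b⁻¹ * f = v := congrArg Subtype.val hu
      have cfa : Commute f a := mem_centralizer_singleton_iff.1 hfa
      have cba : Commute b a := h.A_comm hb ha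
      have cva : Commute v a := by
        rw [← hv]
        exact ((cba.mul_left cfa).mul_left cba.inv_left).mul_left cfa
      have hvb : b * v * b⁻¹ = v := by
        rw [← hv, show b * (b * f * b⁻¹ * f) * b⁻¹ = b * b * f * (b * b)⁻¹ * (b * f * b⁻¹) by group, h.A2 b hb,
          one_mul, inv_one, mul_one, h.el.comm hfE (h.el.normal.conj_mem f hfE b)]
      exact ⟨h.mem_A_two h2 ha haE hb hbE hab cva.eq (mul_inv_eq_iff_eq_mul.1 hvb).symm, hvE⟩
    rw [← h1]
    exact (Nat.mul_le_mul hk hr).trans (le_refl _)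
  · have hle : F ≤ A ⊓ E := fun f hf => ⟨h.mem_A_one h4 ha haE (mem_centralizer_singleton_iff.1 hf.2)
      fun e he => h.el.comm hf.1 he.2, hf.1⟩
    exact (card_le_of_le hle).trans h4.le

theorem hfix [Finite S] {a : S} (ha : a ∈ A) (haE : a ∉ E) :
    ∀ c ∈ centralizer (E : Set S), a * c = c * a → c ∈ E := by
  intro c hc hac
  haveI := h.el.normal
  haveI := h.el.C_normal
  haveI : Fact (Nat.Prime 2) := ⟨Nat.prime_two⟩
  rcases h.card_inf with h2 | h4
  swap
  · exact h.mem_inf_of_fix hc (h.mem_A_one h4 ha haE hac.symm fun f hf => El.C_comm hc hf.2)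
  obtain ⟨b, hb, hbE, hab⟩ := h.exists_second h2 ha
  by_contra hcE
  set T := centralizer ({a} : Set S) with hT
  have hcT : c ∈ T := mem_centralizer_singleton_iff.2 hac.symm
  obtain ⟨L, hLn, hEL, hLC, hLc, hLcomm⟩ := Fusion.exists_normal_card_succ (h.two.to_subgroup T)
    (E.subgroupOf T) ((centralizer (E : Set S)).subgroupOf T)
    (lt_of_le_of_ne (fun u hu => h.el.le_centralizer hu) fun e => hcE (by
      have h1 : (⟨c, hcT⟩ : T) ∈ (centralizer (E : Set S)).subgroupOf T := hc
      rw [← e] at h1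
      exact h1))
  obtain ⟨⟨x, hxT⟩, hxL, hxE⟩ := SetLike.not_le_iff_exists.1 (fun hle : L ≤ E.subgroupOf T => by
    have := card_le_of_le hle
    rw [hLc] at this
    have : 0 < Nat.card (E.subgroupOf T) := Nat.card_pos
    omega)
  have hxC : x ∈ centralizer (E : Set S) := hLC hxL
  have hxE' : x ∉ E := hxE
  have hxa : x * a = a * x := mem_centralizer_singleton_iff.1 hxT
  have hbT : b ∈ T := mem_centralizer_singleton_iff.2 (h.A_comm hb ha)
  have hf0 : x * b * x⁻¹ * b⁻¹ ∈ E :=
    (hLcomm (commutator_mem_commutator hxL (mem_top (⟨b, hbT⟩ : T))) :)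
  set f := x * b * x⁻¹ * b⁻¹ with hf
  have cxa : Commute x a := hxa
  have cba : Commute b a := h.A_comm hb ha
  have cfa : Commute f a := ((cxa.mul_left cba).mul_left cxa.inv_left).mul_left cba.inv_left
  have hfb : f * b = b * f := by
    have h1 : b * f * b⁻¹ = f⁻¹ := by
      rw [hf, mul_inv_rev, mul_inv_rev, mul_inv_rev, inv_inv, inv_inv, h.A_inv hb,
        show b * (x * b * x⁻¹ * b) * b = b * x * b * x⁻¹ * (b * b) by group, h.A2 b hb, mul_one]
      group
    rw [h.el.inv_eq hf0] at h1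
    exact (mul_inv_eq_iff_eq_mul.1 h1).symm
  rcases h.inf_two_cases h2 ⟨h.mem_A_two h2 ha haE hb hbE hab cfa.eq hfb, hf0⟩ with e | e
  · refine hxE' (h.mem_inf_of_fix hxC (h.mem_A_two h2 ha haE hb hbE hab hxa ?_))
    exact mul_inv_eq_iff_eq_mul.1 (mul_inv_eq_one.1 e)
  -- correct `x` by a fixed element of `a` moved by `b`
  obtain ⟨t, ht, htb⟩ : ∃ t ∈ E ⊓ centralizer ({a} : Set S), t * b ≠ b * t := by
    by_contra hno
    push Not at hno
    have := card_le_of_le (show E ⊓ centralizer ({a} : Set S) ≤ A ⊓ E from fun t ht =>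
      ⟨h.mem_A_two h2 ha haE hb hbE hab (mem_centralizer_singleton_iff.1 ht.2) (hno t ht), ht.1⟩)
    rw [h.fix4 ha haE, h2] at this
    omega
  have htv : t * b * t⁻¹ * b⁻¹ = z := by
    have hta : Commute t a := mem_centralizer_singleton_iff.1 ht.2
    have hu : t * b * t⁻¹ * b⁻¹ ∈ E := by
      rw [show t * b * t⁻¹ * b⁻¹ = t * (b * t⁻¹ * b⁻¹) by group]
      exact mul_mem ht.1 (h.el.normal.conj_mem _ (inv_mem ht.1) b)
    have cua : Commute (t * b * t⁻¹ * b⁻¹) a :=
      ((hta.mul_left cba).mul_left hta.inv_left).mul_left cba.inv_left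
    have hub : t * b * t⁻¹ * b⁻¹ * b = b * (t * b * t⁻¹ * b⁻¹) := by
      have h1 : b * (t * b * t⁻¹ * b⁻¹) * b⁻¹ = (t * b * t⁻¹ * b⁻¹)⁻¹ := by
        rw [mul_inv_rev, mul_inv_rev, mul_inv_rev, inv_inv, inv_inv, h.A_inv hb,
          show b * (t * b * t⁻¹ * b) * b = b * t * b * t⁻¹ * (b * b) by group, h.A2 b hb, mul_one]
        group
      rw [h.el.inv_eq hu] at h1
      exact (mul_inv_eq_iff_eq_mul.1 h1).symm
    rcases h.inf_two_cases h2 ⟨h.mem_A_two h2 ha haE hb hbE hab cua.eq hub, hu⟩ with e' | e'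
    · exact absurd (mul_inv_eq_iff_eq_mul.1 (mul_inv_eq_one.1 e')) htb
    · exact e'
  refine hxE' ?_
  have hxt : x * t ∈ E := by
    refine h.mem_inf_of_fix (mul_mem hxC (h.el.le_centralizer ht.1)) (h.mem_A_two h2 ha haE hb hbE hab
      ((cxa.mul_left (mem_centralizer_singleton_iff.1 ht.2 : Commute t a)).eq) ?_)
    calc x * t * b = x * (t * b * t⁻¹ * b⁻¹) * b * t := by group
      _ = z * (x * b * x⁻¹ * b⁻¹) * (b * (x * t)) := by rw [htv, h.zc x]; group
      _ = b * (x * t) := by rw [← hf, e, h.el.sq z h.zE, one_mul]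
  simpa using mul_mem hxt (inv_mem ht.1)

theorem hT_four [Finite S] (h4 : Nat.card (A ⊓ E : Subgroup S) = 4) {a : S} (ha : a ∈ A) (haE : a ∉ E) {y : S}
    (hya : y * a = a * y) (hyF : ∀ e ∈ E, a * e = e * a → y * e = e * y) :
    y ∈ centralizer (E : Set S) ∨ y * a ∈ centralizer (E : Set S) := by
  have hyA := h.mem_A_one h4 ha haE hya fun f hf => hyF f hf.2 (h.A_comm ha hf.1)
  exact (h.gen_one h4 ha haE hyA).imp (fun e => h.el.le_centralizer e) fun e => h.el.le_centralizer e

theorem good_eight [Finite S] (hE : Nat.card E = 8) : SecRankFour.Good (⊤ : Subgroup S) := by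
  haveI := h.el.normal
  haveI : Fact (Nat.Prime 2) := ⟨Nat.prime_two⟩
  obtain ⟨a, ha, haC⟩ := SetLike.not_le_iff_exists.1 h.hne
  have haE : a ∉ E := fun e => haC (h.el.le_centralizer e)
  have mk : ∀ c ∈ A, c ∉ E → (∀ y : S, y * c = c * y → (∀ e ∈ E, c * e = e * c → y * e = e * y) →
      y ∈ centralizer (E : Set S) ∨ y * c ∈ centralizer (E : Set S)) → Three E c := fun c hc hcE hT =>
    ⟨h.two, h.el, hE, h.A2 c hc, fun e => hcE (h.mem_inf_of_fix e hc), h.fix4 hc hcE, h.hfix hc hcE, hT, h.max⟩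
  rcases h.card_inf with h2 | h4
  swap
  · exact (mk a ha haE fun y => h.hT_four h4 ha haE).good
  obtain ⟨b, hb, hbE, hab⟩ := h.exists_second h2 ha
  -- a normal subgroup of order four in `E`
  have hzn : (zpowers z).Normal := ⟨fun u hu g => by
    obtain ⟨i, rfl⟩ := mem_zpowers_iff.1 hu
    rw [(show Commute g z from h.zc g).zpow_right i, mul_inv_cancel_right]
    exact zpow_mem (mem_zpowers z) i⟩
  have hz2 : Nat.card (zpowers z) = 2 := by
    rw [Nat.card_zpowers]
    exact orderOf_eq_prime (by rw [pow_two]; exact h.el.sq z h.zE) h.z1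
  have hzle : zpowers z ≤ E := zpowers_le.2 h.zE
  obtain ⟨M, hMn, hzM, hME, hMc, hMcomm⟩ := Fusion.exists_normal_card_succ h.two (zpowers z) E
    (lt_of_le_of_ne hzle fun e => by rw [e, hE] at hz2; omega)
  obtain ⟨c, hc, hcE, hcM⟩ : ∃ c ∈ A, c ∉ E ∧ E ⊓ centralizer ({c} : Set S) ≠ M := by
    by_cases hMa : E ⊓ centralizer ({a} : Set S) = M
    · refine ⟨b, hb, hbE, fun hMb => ?_⟩
      have hle : M ≤ A ⊓ E := fun m hm => ⟨h.mem_A_two h2 ha haE hb hbE hab
        (mem_centralizer_singleton_iff.1 (hMa.ge hm).2) (mem_centralizer_singleton_iff.1 (hMb.ge hm).2), hME hm⟩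
      have := card_le_of_le hle
      omega
    · exact ⟨a, ha, haE, hMa⟩
  refine (mk c hc hcE fun y hyc hyF => ?_).good
  set F := E ⊓ centralizer ({c} : Set S) with hF
  have hF4 : Nat.card F = 4 := h.fix4 hc hcE
  obtain ⟨m, hm, hmF⟩ := SetLike.not_le_iff_exists.1 (fun hle : M ≤ F =>
    hcM (eq_of_le_of_card_ge hle (by rw [hF4, hMc, hz2])).symm)
  obtain ⟨t, htF, htz⟩ := SetLike.not_le_iff_exists.1 (fun hle : F ≤ zpowers z => by
    have := card_le_of_le hle
    omega)
  have hzF : z ∈ F := ⟨h.zE, mem_centralizer_singleton_iff.2 (h.zc c).symm⟩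
  have htF' : c * t = t * c := (mem_centralizer_singleton_iff.1 htF.2).symm
  have hyt : y * t = t * y := hyF t htF.1 htF'
  have hmE := hME hm
  have hdisp : ∀ g : S, g * m * g⁻¹ * m = 1 ∨ g * m * g⁻¹ * m = z := by
    intro g
    have h1 := inv_mem (hMcomm (commutator_mem_commutator hm (mem_top g)))
    rw [commutatorElement_inv, commutatorElement_def, h.el.inv_eq hmE] at h1
    obtain ⟨i, hi⟩ := mem_zpowers_iff.1 h1
    rw [← hi]
    rcases Int.even_or_odd i with ⟨j, rfl⟩ | ⟨j, rfl⟩
    · exact Or.inl (by rw [zpow_add, ← (Commute.refl z).mul_zpow, h.el.sq z h.zE, one_zpow])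
    · refine Or.inr ?_
      rw [zpow_add, zpow_one, two_mul, zpow_add, ← (Commute.refl z).mul_zpow, h.el.sq z h.zE, one_zpow, one_mul]
  have hgen : ∀ g : S, g * t = t * g → g * m * g⁻¹ = m → g ∈ centralizer (E : Set S) := fun g hgt hgm =>
    gen_eight h.two h.el hE h.zE htF.1 hmE h.z1 (fun e => htz (e ▸ one_mem _))
      (fun e => htz (e ▸ mem_zpowers z))
      ⟨fun e => hmF (e ▸ one_mem _), fun e => hmF (e ▸ hzF), fun e => hmF (e ▸ htF),
        fun e => hmF (e ▸ mul_mem hzF htF)⟩
      (h.zc g) hgt (mul_inv_eq_iff_eq_mul.1 hgm)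
  rcases hdisp y with e | e
  · exact Or.inl (hgen y hyt ((mul_eq_one_iff_eq_inv.1 e).trans (h.el.inv_eq hmE)))
  refine Or.inr (hgen _ ((show Commute y t from hyt).mul_left (htF' : Commute c t)).eq ?_)
  have hcm : c * m * c⁻¹ = z * m := by
    rcases hdisp c with e' | e'
    · exact absurd (⟨hmE, mem_centralizer_singleton_iff.2 (mul_inv_eq_iff_eq_mul.1
        ((mul_eq_one_iff_eq_inv.1 e').trans (h.el.inv_eq hmE))).symm⟩ : m ∈ F) hmF
    · rw [eq_mul_inv_of_mul_eq e', h.el.inv_eq hmE]
  calc y * c * m * (y * c)⁻¹ = y * (c * m * c⁻¹) * y⁻¹ := by group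
    _ = y * z * y⁻¹ * (y * m * y⁻¹) := by rw [hcm]; group
    _ = z * (z * m) := by rw [h.zc y, mul_inv_cancel_right, eq_mul_inv_of_mul_eq e, h.el.inv_eq hmE]
    _ = m := by rw [← mul_assoc, h.el.sq z h.zE, one_mul]

theorem good_sixteen [Finite S] (hE : Nat.card E = 16) : SecRankFour.Good (⊤ : Subgroup S) := by
  classical
  haveI := h.el.normal
  haveI := h.el.C_normal
  haveI : Fact (Nat.Prime 2) := ⟨Nat.prime_two⟩
  set π := QuotientGroup.mk' E with hπ
  -- fixed elements are displacements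
  have him : ∀ a ∈ A, a ∉ E → ∀ w ∈ E, a * w = w * a → ∃ e ∈ E, a * e * a⁻¹ * e = w := by
    intro a ha haE w hw hwa
    have h1 := h.el.dE_card a
    rw [h.fix4 ha haE, hE] at h1
    have hle : (h.el.dE a).range.map E.subtype ≤ E ⊓ centralizer ({a} : Set S) := by
      rintro _ ⟨_, ⟨f, rfl⟩, rfl⟩
      refine ⟨mul_mem (h.el.normal.conj_mem f f.2 a) f.2, mem_centralizer_singleton_iff.2 ?_⟩
      show a * f * a⁻¹ * f * a = a * (a * f * a⁻¹ * f)
      rw [show a * (a * (f : S) * a⁻¹ * f) = a * a * (f * a⁻¹ * f) by group, h.A2 a ha, one_mul, h.A_inv ha]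
      rw [show a * (f : S) * a * f * a = a * f * a * f * a⁻¹ by rw [h.A_inv ha]]
      calc a * (f : S) * a * f * a⁻¹ = (a * f * a⁻¹) * (a * a) * f * a⁻¹ := by group
        _ = (a * f * a⁻¹) * f * a⁻¹ := by rw [h.A2 a ha, mul_one]
        _ = f * (a * f * a⁻¹) * a⁻¹ := by rw [h.el.comm (h.el.normal.conj_mem f f.2 a) f.2]
        _ = f * a * f * (a⁻¹ * a⁻¹) := by group
        _ = f * a * f := by rw [h.A_inv ha, h.A2 a ha, mul_one]
    have heq := eq_of_le_of_card_ge hle (by
      rw [h.fix4 ha haE, card_map_of_injective E.subtype_injective]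
      omega)
    obtain ⟨_, ⟨f, rfl⟩, hfw⟩ : w ∈ (h.el.dE a).range.map E.subtype :=
      heq.ge ⟨hw, mem_centralizer_singleton_iff.2 hwa.symm⟩
    exact ⟨f, f.2, hfw⟩
  -- an element commuting with `a` modulo `E` can be corrected
  have hadj : ∀ a ∈ A, a ∉ E → ∀ g : S, π g * π a = π a * π g → ∃ e ∈ E, e * g * a = a * (e * g) := by
    intro a ha haE g hg
    set w := g * a * g⁻¹ * a with hw
    have hwE : w ∈ E := by
      rw [← QuotientGroup.eq_one_iff (N := E)]
      show π w = 1
      rw [hw, map_mul, map_mul, map_mul, map_inv, hg, mul_inv_cancel_right, ← map_mul, h.A2 a ha, map_one]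
    have hwa : a * w = w * a := by
      have h2 : a * w * a⁻¹ = w⁻¹ := by
        rw [hw, mul_inv_rev, mul_inv_rev, mul_inv_rev, inv_inv, h.A_inv ha,
          show a * (g * a * g⁻¹ * a) * a = a * g * a * g⁻¹ * (a * a) by group, h.A2 a ha, mul_one]
        group
      rw [h.el.inv_eq hwE] at h2
      exact mul_inv_eq_iff_eq_mul.1 h2
    obtain ⟨e, he, hew⟩ := him a ha haE w hwE hwa
    refine ⟨e, he, ?_⟩
    have h3 : g * a * g⁻¹ = w * a⁻¹ := by rw [hw]; group
    calc e * g * a = e * (g * a * g⁻¹) * g := by group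
      _ = e * (a * e * a⁻¹) * e * a⁻¹ * g := by rw [h3, ← hew]; group
      _ = a * e * a⁻¹ * e * e * a⁻¹ * g := by rw [h.el.comm he (h.el.normal.conj_mem e he a)]
      _ = a * e * (a⁻¹ * a⁻¹) * g := by rw [mul_assoc _ e e, h.el.sq e he, mul_one]; group
      _ = a * (e * g) := by rw [h.A_inv ha, h.A2 a ha, mul_one, mul_assoc]
  obtain ⟨a₀, ha₀, ha₀C⟩ := SetLike.not_le_iff_exists.1 h.hne
  have ha₀E : a₀ ∉ E := fun e => ha₀C (h.el.le_centralizer e)
  have hCE : centralizer (E : Set S) ≤ E := by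
    by_contra hlt
    obtain ⟨L, hLn, hEL, hLC, hLc, hLcomm⟩ :=
      Fusion.exists_normal_card_succ h.two E _ (lt_of_le_not_ge h.el.le_centralizer hlt)
    obtain ⟨x, hxL, hxE⟩ := SetLike.not_le_iff_exists.1 (fun hle : L ≤ E => by
      have := card_le_of_le hle
      rw [hLc, hE] at this
      omega)
    have hc : π x * π a₀ = π a₀ * π x := by
      have h1 : π ⁅x, a₀⁆ = 1 := (QuotientGroup.eq_one_iff _).2 (hLcomm (commutator_mem_commutator hxL (mem_top a₀)))
      rw [map_commutatorElement, commutatorElement_eq_one_iff_mul_comm] at h1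
      exact h1
    obtain ⟨e, he, hex⟩ := hadj a₀ ha₀ ha₀E x hc
    have := h.hfix ha₀ ha₀E (e * x) (mul_mem (h.el.le_centralizer he) (hLC hxL)) hex.symm
    exact hxE (by simpa using mul_mem (inv_mem he) this)
  have hmoves : ∀ g e : S, e ∈ E → E ⊓ centralizer ({g} : Set S) = E ⊓ centralizer ({e * g} : Set S) := by
    intro g e he
    ext f
    simp only [mem_inf, mem_centralizer_singleton_iff]
    refine and_congr_right fun hf => ⟨fun hfg => ?_, fun hfg => ?_⟩
    · exact ((show Commute f e from h.el.comm hf he).mul_right hfg).eq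
    · have := (show Commute f e from h.el.comm hf he).inv_right.mul_right hfg
      rwa [inv_mul_cancel_left] at this
  have hfixA : ∀ g e : S, e ∈ E → e * g ∈ A → g ∉ E →
      Nat.card (E ⊓ centralizer ({g} : Set S) : Subgroup S) ≤ 4 := fun g e he heg hgE => by
    rw [hmoves g e he]
    exact (h.fix4 heg fun hh => hgE (by simpa using mul_mem (inv_mem he) hh)).le
  rcases h.card_inf with h2 | h4
  · -- choose `a` so that a central element of the quotient completes it
    have liftA : ∀ a ∈ A, a ∉ E → ∀ b ∈ A, b ∉ E → b * a ∉ E → ∀ g : S, π g * π a = π a * π g →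
        π g * π b = π b * π g → ∃ e ∈ E, e * g ∈ A := by
      intro a ha haE b hb hbE hab g hga hgb
      obtain ⟨e, he, hea⟩ := hadj a ha haE g hga
      set w := e * g * b * (e * g)⁻¹ * b with hw
      have hwE : w ∈ E := by
        rw [← QuotientGroup.eq_one_iff (N := E)]
        show π w = 1
        rw [hw, map_mul, map_mul, map_mul, map_inv, map_mul,
          show π e = 1 from (QuotientGroup.eq_one_iff e).2 he, one_mul, hgb, mul_inv_cancel_right, ← map_mul,
          h.A2 b hb, map_one]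
      have c1 : Commute (e * g) a := hea
      have c2 : Commute b a := h.A_comm hb ha
      have cwa : Commute w a := ((c1.mul_left c2).mul_left c1.inv_left).mul_left c2
      have hwb : w * b = b * w := by
        have h1 : b * w * b⁻¹ = w⁻¹ := by
          rw [hw]
          generalize e * g = u
          rw [mul_inv_rev, mul_inv_rev, mul_inv_rev, inv_inv, h.A_inv hb,
            show b * (u * b * u⁻¹ * b) * b = b * u * b * u⁻¹ * (b * b) by group, h.A2 b hb, mul_one]
          group
        rw [h.el.inv_eq hwE] at h1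
        exact (mul_inv_eq_iff_eq_mul.1 h1).symm
      rcases h.inf_two_cases h2 ⟨h.mem_A_two h2 ha haE hb hbE hab cwa.eq hwb, hwE⟩ with e1 | e1
      · refine ⟨e, he, h.mem_A_two h2 ha haE hb hbE hab hea ?_⟩
        have := mul_eq_one_iff_eq_inv.1 e1
        rw [h.A_inv hb] at this
        exact mul_inv_eq_iff_eq_mul.1 this
      · obtain ⟨t, ht, htb⟩ : ∃ t ∈ E ⊓ centralizer ({a} : Set S), t * b ≠ b * t := by
          by_contra hno
          push Not at hno
          have := card_le_of_le (show E ⊓ centralizer ({a} : Set S) ≤ A ⊓ E from fun t ht =>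
            ⟨h.mem_A_two h2 ha haE hb hbE hab (mem_centralizer_singleton_iff.1 ht.2) (hno t ht), ht.1⟩)
          rw [h.fix4 ha haE, h2] at this
          omega
        have hta : Commute t a := mem_centralizer_singleton_iff.1 ht.2
        have huE : t * b * t⁻¹ * b ∈ E := by
          have h1 := mul_mem ht.1 (h.el.normal.conj_mem _ (inv_mem ht.1) b)
          rwa [h.A_inv hb, show t * (b * t⁻¹ * b) = t * b * t⁻¹ * b by group] at h1
        have cua : Commute (t * b * t⁻¹ * b) a := ((hta.mul_left c2).mul_left hta.inv_left).mul_left c2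
        have hub : t * b * t⁻¹ * b * b = b * (t * b * t⁻¹ * b) := by
          have h1 : b * (t * b * t⁻¹ * b) * b⁻¹ = (t * b * t⁻¹ * b)⁻¹ := by
            rw [mul_inv_rev, mul_inv_rev, mul_inv_rev, inv_inv, h.A_inv hb,
              show b * (t * b * t⁻¹ * b) * b = b * t * b * t⁻¹ * (b * b) by group, h.A2 b hb, mul_one]
            group
          rw [h.el.inv_eq huE] at h1
          exact (mul_inv_eq_iff_eq_mul.1 h1).symm
        have htz : t * b * t⁻¹ * b = z := by
          rcases h.inf_two_cases h2 ⟨h.mem_A_two h2 ha haE hb hbE hab cua.eq hub, huE⟩ with e2 | e2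
          · have := mul_eq_one_iff_eq_inv.1 e2
            rw [h.A_inv hb] at this
            exact absurd (mul_inv_eq_iff_eq_mul.1 this) htb
          · exact e2
        refine ⟨t * e, mul_mem ht.1 he, h.mem_A_two h2 ha haE hb hbE hab ?_ ?_⟩
        · rw [mul_assoc t e g]
          exact (hta.mul_left c1).eq
        · have hk : e * g * b = z * b * (e * g) := by
            calc e * g * b = w * b⁻¹ * (e * g) := by rw [hw]; group
              _ = z * b * (e * g) := by rw [e1, h.A_inv hb]
          calc t * e * g * b = t * (e * g * b) := by group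
            _ = t * z * t⁻¹ * (t * b * t⁻¹ * b) * b⁻¹ * t * (e * g) := by rw [hk]; group
            _ = z * z * (b * (t * e * g)) := by rw [h.zc t, mul_inv_cancel_right, htz, h.A_inv hb]; group
            _ = b * (t * e * g) := by rw [h.el.sq z h.zE, one_mul]
    obtain ⟨b₀, hb₀, hb₀E, hab₀⟩ := h.exists_second h2 ha₀
    have hQ : IsPGroup 2 (S ⧸ E) := h.two.to_quotient E
    haveI : Nontrivial (S ⧸ E) := ⟨⟨π a₀, 1, fun e => ha₀E ((QuotientGroup.eq_one_iff a₀).1 e)⟩⟩
    haveI := hQ.center_nontrivial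
    obtain ⟨c', hc', hc1⟩ := (center (S ⧸ E)).bot_or_exists_ne_one.resolve_left
      ((nontrivial_iff_ne_bot _).1 inferInstance)
    obtain ⟨c₀, rfl⟩ := QuotientGroup.mk'_surjective E c'
    have hcen : ∀ y : S, π y * π c₀ = π c₀ * π y := fun y => mem_center_iff.1 hc' (π y)
    obtain ⟨e, he, hcA⟩ := liftA a₀ ha₀ ha₀E b₀ hb₀ hb₀E hab₀ c₀ (hcen a₀).symm (hcen b₀).symm
    set c := e * c₀ with hcdef
    have hπc : π c = π c₀ := by rw [hcdef, map_mul, show π e = 1 from (QuotientGroup.eq_one_iff e).2 he, one_mul]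
    have hcE : c ∉ E := fun hh => hc1 (hπc ▸ (QuotientGroup.eq_one_iff c).2 hh)
    obtain ⟨a, ha, haE, hca⟩ := h.exists_second h2 hcA
    have hca' : c * a ∉ E := by rw [h.A_comm hcA ha]; exact hca
    have hliftR : ∀ g : S, π g * π a = π a * π g → ∃ e ∈ E, e * g ∈ A := fun g hg =>
      liftA a ha haE c hcA hcE hca' g hg (by rw [hπc]; exact hcen g)
    refine good_four h.two h.el hE hCE haE ?_ fun g hgE hg => ?_
    · have hle : centralizer ({π a} : Set (S ⧸ E)) ≤ A.map π := by
        intro y hy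
        obtain ⟨g, rfl⟩ := QuotientGroup.mk'_surjective E y
        obtain ⟨e, he, heg⟩ := hliftR g (mem_centralizer_singleton_iff.1 hy)
        refine ⟨e * g, heg, ?_⟩
        rw [map_mul, show π e = 1 from (QuotientGroup.eq_one_iff e).2 he, one_mul]
      refine (card_le_of_le hle).trans ?_
      have h1 := card_map_mul E A
      rw [h.A8, h2, ← hπ] at h1
      omega
    · obtain ⟨e, he, heg⟩ := hliftR g hg
      exact hfixA g e he heg hgE
  · -- `A` is generated by its intersection with `E` and `a₀`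
    have hF : E ⊓ centralizer ({a₀} : Set S) = A ⊓ E := (eq_of_le_of_card_ge
      (show A ⊓ E ≤ E ⊓ centralizer ({a₀} : Set S) from fun f hf =>
        ⟨hf.2, mem_centralizer_singleton_iff.2 (h.A_comm hf.1 ha₀)⟩) (by rw [h.fix4 ha₀ ha₀E, h4])).symm
    obtain ⟨u, hu, huz⟩ := SetLike.not_le_iff_exists.1 (fun hle : A ⊓ E ≤ zpowers z => by
      have := card_le_of_le hle
      rw [h4, Nat.card_zpowers, orderOf_eq_prime (p := 2) (by rw [pow_two]; exact h.el.sq z h.zE) h.z1] at this
      omega)
    have hu1 : u ≠ 1 := fun e => huz (e ▸ one_mem _)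
    have huz' : z ≠ u := fun e => huz (e ▸ mem_zpowers z)
    have hcases : ∀ f ∈ A ⊓ E, f = 1 ∨ f = z ∨ f = u ∨ f = z * u := fun f hf =>
      eq_of_card_four h4 (show z ∈ A ⊓ E from ⟨h.zA, h.zE⟩) hu h.z1 hu1 huz'
        (fun e => huz' ((mul_eq_one_iff_eq_inv.1 e).trans (h.el.inv_eq hu.2))) hf
    have hinA : ∀ g : S, g * a₀ = a₀ * g → g * u * g⁻¹ = u → g ∈ A := fun g hga hgu =>
      h.mem_A_one h4 ha₀ ha₀E hga fun f hf => by
        have cu : Commute g u := mul_inv_eq_iff_eq_mul.1 hgu
        have cz : Commute g z := h.zc g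
        rcases hcases f hf with rfl | rfl | rfl | rfl
        exacts [(Commute.one_right g).eq, cz.eq, cu.eq, (cz.mul_right cu).eq]
    have hmove : ∀ g : S, g * a₀ = a₀ * g → g ∉ A → g * u * g⁻¹ = z * u := by
      intro g hga hgA
      have hmem : g * u * g⁻¹ ∈ A ⊓ E := by
        rw [← hF]
        refine ⟨h.el.normal.conj_mem u hu.2 g, mem_centralizer_singleton_iff.2 ?_⟩
        have c1 : Commute g a₀ := hga
        have c2 : Commute u a₀ := h.A_comm hu.1 ha₀
        exact ((c1.mul_left c2).mul_left c1.inv_left).eq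
      rcases hcases _ hmem with e | e | e | e
      · exact absurd (conj_eq_one_iff.1 e) hu1
      · refine absurd ?_ huz'
        calc z = g⁻¹ * z * g := by rw [mul_assoc, ← h.zc g, inv_mul_cancel_left]
          _ = g⁻¹ * (g * u * g⁻¹) * g := by rw [e]
          _ = u := by group
      · exact absurd (hinA g hga e) hgA
      · exact e
    refine good_four h.two h.el hE hCE ha₀E ?_ fun g hgE hg => ?_
    · by_contra hlt
      push Not at hlt
      have hRA : ∀ y ∈ centralizer ({π a₀} : Set (S ⧸ E)), ∀ y' ∈ centralizer ({π a₀} : Set (S ⧸ E)),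
          y ∉ A.map π → y' ∉ A.map π → y⁻¹ * y' ∈ A.map π := by
        intro y hy y' hy' hyA hy'A
        obtain ⟨g, rfl⟩ := QuotientGroup.mk'_surjective E y
        obtain ⟨g', rfl⟩ := QuotientGroup.mk'_surjective E y'
        obtain ⟨e, he, hga⟩ := hadj a₀ ha₀ ha₀E g (mem_centralizer_singleton_iff.1 hy)
        obtain ⟨e', he', hga'⟩ := hadj a₀ ha₀ ha₀E g' (mem_centralizer_singleton_iff.1 hy')
        have hπe : ∀ e ∈ E, ∀ g : S, π (e * g) = π g := fun e he g => by
          rw [map_mul, show π e = 1 from (QuotientGroup.eq_one_iff e).2 he, one_mul]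
        have h1 := hmove _ hga fun hh => hyA ⟨_, hh, hπe e he g⟩
        have h2 := hmove _ hga' fun hh => hy'A ⟨_, hh, hπe e' he' g'⟩
        have c1 : Commute (e * g) a₀ := hga
        refine ⟨(e * g)⁻¹ * (e' * g'), hinA _ (c1.inv_left.mul_left hga').eq ?_, by
          rw [map_mul, map_inv, hπe e he g, hπe e' he' g']⟩
        rw [show (e * g)⁻¹ * (e' * g') * u * ((e * g)⁻¹ * (e' * g'))⁻¹ =
          (e * g)⁻¹ * (e' * g' * u * (e' * g')⁻¹) * (e * g) by group, h2, ← h1]
        group
      have hA2 : Nat.card (A.map π) = 2 := by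
        have h1 := card_map_mul E A
        rw [h.A8, h4, ← hπ] at h1
        omega
      set R := centralizer ({π a₀} : Set (S ⧸ E)) with hRdef
      by_cases hRle : R ≤ A.map π
      · have := card_le_of_le hRle
        omega
      obtain ⟨y, hy, hyA⟩ := SetLike.not_le_iff_exists.1 hRle
      have hd : Nat.card R ≤ 2 * Nat.card (R ⊓ A.map π : Subgroup (S ⧸ E)) :=
        MacWilliams.card_le_double fun v hv hvA w hw hwA => by
          have h1 := hRA v⁻¹ (inv_mem hv) w hw (fun hh => hvA (by simpa using inv_mem hh)) hwA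
          rwa [inv_inv] at h1
      have := card_le_of_le (inf_le_right : R ⊓ A.map π ≤ A.map π)
      omega
    · obtain ⟨e, he, hga⟩ := hadj a₀ ha₀ ha₀E g hg
      by_contra hlt
      push Not at hlt
      rw [hmoves g e he] at hlt
      set P := E ⊓ centralizer ({e * g} : Set S) with hP
      have h8 := double_of_lt h.two (H := P) (H' := (⊥ : Subgroup S)) (k := 2) (by simpa using hlt)
      simp only [card_bot, mul_one] at h8
      have hFP : A ⊓ E ≤ P := by
        intro f hf
        rw [← hF] at hf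
        obtain ⟨d, hd, rfl⟩ := him a₀ ha₀ ha₀E f hf.1 (mem_centralizer_singleton_iff.1 hf.2).symm
        have c1 : Commute (e * g) a₀ := hga
        have hconjP : ∀ v : S, v ∈ P → a₀ * v * a₀⁻¹ ∈ P := fun v hv =>
          ⟨h.el.normal.conj_mem v hv.1 a₀, mem_centralizer_singleton_iff.2 (((c1.mul_right
            (mem_centralizer_singleton_iff.1 hv.2 : Commute v (e * g)).symm).mul_right c1.inv_right).eq).symm⟩
        by_cases hdP : d ∈ P
        · exact mul_mem (hconjP d hdP) hdP
        have hidx : (P.subgroupOf E).index = 2 := by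
          have h1 := (P.subgroupOf E).card_mul_index
          rw [Nat.card_congr (subgroupOfEquivOfLe inf_le_left).toEquiv, hE] at h1
          have hle16 := card_le_of_le (inf_le_left : P ≤ E)
          obtain ⟨k, hk⟩ := exists_card_pow h.two P
          rw [hE] at hle16
          have hk3 : Nat.card P = 8 := by
            by_contra hne8
            have h16 : Nat.card P = 16 := by
              rw [hk] at hne8 h8 hle16 ⊢
              rcases k with _ | _ | _ | _ | _ | k
              · norm_num at h8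
              · norm_num at h8
              · norm_num at h8
              · norm_num at hne8
              · rfl
              · have : 2 ^ 5 ≤ 2 ^ (k + 5) := Nat.pow_le_pow_right (by norm_num) (by omega)
                omega
            exact hdP ((eq_of_le_of_card_ge (inf_le_left : P ≤ E) (by rw [h16, hE])).ge hd)
          rw [hk3] at h1
          omega
        have hadP : a₀ * d * a₀⁻¹ ∉ P := fun hh => hdP (by
          have h1 := hconjP _ hh
          rwa [show a₀ * (a₀ * d * a₀⁻¹) * a₀⁻¹ = a₀ * a₀ * d * (a₀ * a₀)⁻¹ by group, h.A2 _ ha₀, one_mul,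
            inv_one, mul_one] at h1)
        exact (mul_mem_iff_of_index_two hidx (a := ⟨_, h.el.normal.conj_mem d hd a₀⟩) (b := ⟨d, hd⟩)).2
          (by simp only [mem_subgroupOf]; exact iff_of_false hadP hdP)
      have hegA : e * g ∈ A := by
        refine hinA _ hga (mul_inv_eq_iff_eq_mul.2 ?_)
        exact (mem_centralizer_singleton_iff.1 (hFP hu).2).symm
      have := hfixA g e he hegA hgE
      rw [hmoves g e he] at this
      exact absurd this (not_le.2 hlt)

/-- elementary abelian sections have order at most sixteen -/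
theorem good [Finite S] : SecRankFour.Good (⊤ : Subgroup S) := by
  obtain ⟨a, ha, haC⟩ := SetLike.not_le_iff_exists.1 h.hne
  have hb := h.fixed_bound ha
  rw [h.fix4 ha fun e => haC (h.el.le_centralizer e)] at hb
  obtain ⟨k, hk⟩ := exists_card_pow h.two E
  have h8 := h.E8
  rw [hk] at hb h8
  rcases k with _ | _ | _ | _ | _ | k
  · norm_num at h8
  · norm_num at h8
  · norm_num at h8
  · exact h.good_eight hk
  · exact h.good_sixteen hk
  · have : 2 ^ 5 ≤ 2 ^ (k + 5) := Nat.pow_le_pow_right (by norm_num) (by omega)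
    omega

end

end Pair

end Cfsg.Agent.SelfCentEight
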