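import Cfsg.Agent.SecRankFour.Basic
import Cfsg.Agent.Fusion.PGroup
import Cfsg.Agent.MaxClass.Class
import Cfsg.Agent.Invol.UniqueInvolution

/-!
Tools for 2-groups with a self-centralizing elementary abelian subgroup of order eight: counting along a normal
chain `E ≤ C`, and the action of an involution on a normal elementary abelian subgroup.
-/

set_option autoImplicit false
set_option linter.style.haveILetI false
set_option linter.unusedSectionVars false
set_option maxHeartbeats 400000

namespace Cfsg.Agent.SelfCentEight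

open Subgroup
open scoped commutatorElement

variable {S : Type*} [Group S]

theorem card_map_mul [Finite S] (M H : Subgroup S) [M.Normal] :
    Nat.card H = Nat.card (H.map (QuotientGroup.mk' M)) * Nat.card (H ⊓ M : Subgroup S) := by
  set h := (QuotientGroup.mk' M).comp H.subtype with hh
  have h1 := h.ker.card_mul_index
  rw [index_ker] at h1
  have hr : h.range = H.map (QuotientGroup.mk' M) := by rw [hh, MonoidHom.range_comp, range_subtype]
  have hk : h.ker = M.subgroupOf H := by
    ext x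
    simp [hh, MonoidHom.mem_ker, mem_subgroupOf]
  rw [hr, hk, ← inf_subgroupOf_left, Nat.card_congr (subgroupOfEquivOfLe inf_le_left).toEquiv] at h1
  rw [mul_comm]
  exact h1.symm

/-- counting along `E ≤ C` -/
theorem card_le_of_layers [Finite S] {C E K N : Subgroup S} [C.Normal] [E.Normal] (hEC : E ≤ C) {i j l : ℕ}
    (hijl : i * (j * l) ≤ 16)
    (h1 : Nat.card (K.map (QuotientGroup.mk' C)) ≤ i * Nat.card (N.map (QuotientGroup.mk' C)))
    (h2 : Nat.card ((K ⊓ C).map (QuotientGroup.mk' E)) ≤ j * Nat.card ((N ⊓ C).map (QuotientGroup.mk' E)))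
    (h3 : Nat.card (K ⊓ E : Subgroup S) ≤ l * Nat.card (N ⊓ E : Subgroup S)) :
    Nat.card K ≤ 16 * Nat.card N := by
  have e : ∀ H : Subgroup S, Nat.card H = Nat.card (H.map (QuotientGroup.mk' C)) *
      (Nat.card ((H ⊓ C).map (QuotientGroup.mk' E)) * Nat.card (H ⊓ E : Subgroup S)) := fun H => by
    rw [card_map_mul C H, card_map_mul E (H ⊓ C), inf_assoc, inf_eq_right.2 hEC]
  rw [e K, e N]
  refine (Nat.mul_le_mul h1 (Nat.mul_le_mul h2 h3)).trans ?_
  calc _ = i * (j * l) * (Nat.card (N.map (QuotientGroup.mk' C)) *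
        (Nat.card ((N ⊓ C).map (QuotientGroup.mk' E)) * Nat.card (N ⊓ E : Subgroup S))) := by ring
    _ ≤ _ := Nat.mul_le_mul_right _ hijl

/-- orders of 2-groups differ by factors of two -/
theorem double_of_lt [Finite S] (hS : IsPGroup 2 S) {H H' : Subgroup S} {k : ℕ}
    (h : 2 ^ k * Nat.card H' < Nat.card H) : 2 ^ (k + 1) * Nat.card H' ≤ Nat.card H := by
  haveI : Fact (Nat.Prime 2) := ⟨Nat.prime_two⟩
  obtain ⟨i, hi⟩ := (hS.to_subgroup H').exists_card_eq
  obtain ⟨j, hj⟩ := (hS.to_subgroup H).exists_card_eq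
  rw [hi, hj, ← pow_add] at h ⊢
  exact Nat.pow_le_pow_right (by norm_num) (by have := (Nat.pow_lt_pow_iff_right one_lt_two).1 h; omega)

theorem exists_card_pow [Finite S] (hS : IsPGroup 2 S) (H : Subgroup S) : ∃ k, Nat.card H = 2 ^ k := by
  haveI : Fact (Nat.Prime 2) := ⟨Nat.prime_two⟩
  exact (hS.to_subgroup H).exists_card_eq

theorem two_le_card [Finite S] {H : Subgroup S} {z : S} (hz : z ∈ H) (hz1 : z ≠ 1) : 2 ≤ Nat.card H :=
  Finite.one_lt_card_iff_nontrivial.2 ⟨⟨z, hz⟩, 1, fun h => hz1 (congrArg Subtype.val h)⟩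

theorem four_le_card [Finite S] (hS : IsPGroup 2 S) {H : Subgroup S} {z z' : S} (hz : z ∈ H) (hz' : z' ∈ H)
    (hz1 : z ≠ 1) (hz1' : z' ≠ 1) (hne : z ≠ z') : 4 ≤ Nat.card H := by
  obtain ⟨k, hk⟩ := exists_card_pow hS H
  have h3 : 2 < (H : Set S).ncard :=
    (Set.two_lt_ncard_iff (Set.toFinite _)).2 ⟨1, z, z', H.one_mem, hz, hz', Ne.symm hz1, Ne.symm hz1', hne⟩
  rw [← Nat.card_coe_set_eq, show Nat.card ↥(H : Set S) = Nat.card H from rfl, hk] at h3
  rw [hk, show 4 = 2 ^ 2 by norm_num]
  exact Nat.pow_le_pow_right (by norm_num) (by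
    have := (Nat.pow_lt_pow_iff_right one_lt_two).1 (show 2 ^ 1 < 2 ^ k by simpa using h3)
    omega)

/-- a four-element subgroup with two given involutions -/
theorem eq_of_card_four [Finite S] {H : Subgroup S} (h4 : Nat.card H = 4) {u w : S} (hu : u ∈ H) (hw : w ∈ H)
    (hu1 : u ≠ 1) (hw1 : w ≠ 1) (huw : u ≠ w) (hp : u * w ≠ 1) {x : S} (hx : x ∈ H) :
    x = 1 ∨ x = u ∨ x = w ∨ x = u * w := by
  have hall : ({1, u, w, u * w} : Set S) = (H : Set S) := by
    refine Set.eq_of_subset_of_ncard_le ?_ ?_ (Set.toFinite _)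
    · rintro y (rfl | rfl | rfl | rfl)
      exacts [H.one_mem, hu, hw, mul_mem hu hw]
    · rw [← Nat.card_coe_set_eq, show Nat.card ↥(H : Set S) = 4 from h4,
        Set.ncard_insert_of_notMem (by simp [Ne.symm hu1, Ne.symm hw1, Ne.symm hp]) (Set.toFinite _),
        Set.ncard_insert_of_notMem (by simp [huw, hw1]) (Set.toFinite _),
        Set.ncard_pair (by simp [hu1])]
  simpa using hall.ge hx

/-- a normal elementary abelian subgroup -/
structure El (E : Subgroup S) : Prop where
  normal : E.Normal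
  sq : ∀ e ∈ E, e * e = 1

namespace El

variable {E : Subgroup S} (h : El E)
include h

theorem inv_eq {e : S} (he : e ∈ E) : e⁻¹ = e := inv_eq_of_mul_eq_one_right (h.sq e he)

theorem comm {e f : S} (he : e ∈ E) (hf : f ∈ E) : e * f = f * e := by
  have h1 := h.sq _ (mul_mem he hf)
  rw [← mul_one (e * f), ← h1, show e * f * (e * f * (e * f)) = e * f * e * (f * e) * f by group]
  rw [show e * f * e * (f * e) * f = (e * f) * (e * f) * (e * f) by group, h1, one_mul]
  calc e * f = (e * f)⁻¹ := (inv_eq_of_mul_eq_one_right h1).symm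
    _ = f * e := by rw [mul_inv_rev, h.inv_eq he, h.inv_eq hf]

theorem le_centralizer : E ≤ centralizer (E : Set S) := fun _ he =>
  mem_centralizer_iff.2 fun _ hf => h.comm hf he

theorem C_normal : (centralizer (E : Set S)).Normal := by
  haveI := h.normal
  infer_instance

omit h in
theorem C_comm {c e : S} (hc : c ∈ centralizer (E : Set S)) (he : e ∈ E) : c * e = e * c :=
  (mem_centralizer_iff.1 hc e he).symm

omit h in
theorem C_fix {c e : S} (hc : c ∈ centralizer (E : Set S)) (he : e ∈ E) : c * e * c⁻¹ = e := by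
  rw [C_comm hc he, mul_inv_cancel_right]

theorem dE_mul {g e f : S} (he : e ∈ E) (hf : f ∈ E) :
    g * (e * f) * g⁻¹ * (e * f) = g * e * g⁻¹ * e * (g * f * g⁻¹ * f) := by
  have h1 : Commute (g * f * g⁻¹) e := h.comm (h.normal.conj_mem f hf g) he
  calc g * (e * f) * g⁻¹ * (e * f) = g * e * g⁻¹ * ((g * f * g⁻¹) * e) * f := by group
    _ = g * e * g⁻¹ * (e * (g * f * g⁻¹)) * f := by rw [h1.eq]
    _ = _ := by group

/-- the displacement of `g` on `E` -/
def dE (g : S) : ↥E →* ↥E :=
  MonoidHom.mk' (fun e => ⟨g * e * g⁻¹ * e, mul_mem (h.normal.conj_mem e e.2 g) e.2⟩) fun e f =>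
    Subtype.ext (h.dE_mul e.2 f.2)

theorem dE_ker_card [Finite S] (g : S) :
    Nat.card (h.dE g).ker = Nat.card (E ⊓ centralizer ({g} : Set S) : Subgroup S) := by
  have hiff : ∀ e : ↥E, e ∈ (h.dE g).ker ↔ (e : S) ∈ centralizer ({g} : Set S) := fun e => by
    rw [MonoidHom.mem_ker, mem_centralizer_singleton_iff]
    constructor
    · intro he
      have h1 : g * e * g⁻¹ * e = (1 : S) := congrArg Subtype.val he
      have h2 : g * e * g⁻¹ = (e : S) := (mul_eq_one_iff_eq_inv.1 h1).trans (h.inv_eq e.2)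
      exact (mul_inv_eq_iff_eq_mul.1 h2).symm
    · intro he
      refine Subtype.ext ?_
      show g * e * g⁻¹ * e = (1 : S)
      rw [← he, mul_inv_cancel_right, h.sq e e.2]
  exact Nat.card_congr
    { toFun := fun e => ⟨e.1.1, e.1.2, (hiff e.1).1 e.2⟩
      invFun := fun e => ⟨⟨e.1, e.2.1⟩, (hiff _).2 e.2.2⟩
      left_inv := fun _ => rfl
      right_inv := fun _ => rfl }

theorem dE_card [Finite S] (g : S) :
    Nat.card (h.dE g).range * Nat.card (E ⊓ centralizer ({g} : Set S) : Subgroup S) = Nat.card E := by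
  rw [← h.dE_ker_card g, mul_comm, ← index_ker]
  exact (h.dE g).ker.card_mul_index

/-- the displacement of an element squaring into the centralizer is fixed by it -/
theorem dE_range_le [Finite S] {a : S} (ha : a * a ∈ centralizer (E : Set S)) :
    Nat.card (h.dE a).range ≤ Nat.card (E ⊓ centralizer ({a} : Set S) : Subgroup S) := by
  refine Nat.card_le_card_of_injective (fun e => ⟨(e.1 : S), e.1.2, ?_⟩) fun e e' he => ?_
  · obtain ⟨⟨e, he⟩, f, hf⟩ := e
    have hef : a * f * a⁻¹ * f = e := congrArg Subtype.val hf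
    refine mem_centralizer_singleton_iff.2 ?_
    have h2 : a * e * a⁻¹ = e := by
      rw [← hef, show a * (a * f * a⁻¹ * f) * a⁻¹ = a * a * f * (a * a)⁻¹ * (a * f * a⁻¹) by group,
        C_fix ha f.2]
      exact h.comm f.2 (h.normal.conj_mem _ f.2 a)
    exact (mul_inv_eq_iff_eq_mul.1 h2).symm
  · exact Subtype.ext (Subtype.ext (congrArg Subtype.val he :))

end El

end Cfsg.Agent.SelfCentEight
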