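import Cfsg.Agent.SelfCentEight.Levels

/-!
Elementary abelian sections when the involution inverts the centralizer modulo `E`: the centralizer is then
abelian and cyclic modulo `E`.
-/

set_option autoImplicit false
set_option linter.style.haveILetI false
set_option linter.unusedSectionVars false
set_option maxHeartbeats 400000

namespace Cfsg.Agent.SelfCentEight

open Subgroup
open scoped commutatorElement

variable {S : Type*} [Group S] {E : Subgroup S} {a e0 x : S}

namespace ThreeX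

variable (h : ThreeX E a e0 x)
include h

theorem quot_cyclic [Finite S] [E.Normal] (hai : AllInv E a) :
    ∃ p ∈ centralizer (E : Set S), ∀ c ∈ centralizer (E : Set S),
      QuotientGroup.mk' E c ∈ zpowers (QuotientGroup.mk' E p) := by
  set π := QuotientGroup.mk' E with hπ
  set D := (centralizer (E : Set S)).map π with hD
  set α := π a with hα
  have hα2 : α * α = 1 := by rw [hα, ← map_mul, h.th.a2, map_one]
  have hinv : ∀ c ∈ D, α * c * α = c⁻¹ := by
    rintro _ ⟨c, hc, rfl⟩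
    refine mul_eq_one_iff_eq_inv.1 ?_
    rw [hα, ← map_mul, ← map_mul, ← map_mul]
    exact mk_one_iff.2 (hai c hc)
  haveI : IsMulCommutative ↥D := ⟨⟨fun c d => by
    apply Subtype.ext
    show (c : S ⧸ E) * d = d * c
    have h1 := hinv _ (mul_mem c.2 d.2)
    rw [show α * ((c : S ⧸ E) * d) * α = α * c * (1 : S ⧸ E) * (d * α) by group, ← hα2,
      show α * (c : S ⧸ E) * (α * α) * (d * α) = α * c * α * (α * d * α) by group, hinv _ c.2, hinv _ d.2] at h1
    have h2 := congrArg (fun u => u⁻¹) h1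
    simp only [mul_inv_rev, inv_inv] at h2
    exact h2.symm⟩⟩
  have hDp : IsPGroup 2 ↥D := (h.th.two.to_quotient E).to_subgroup D
  haveI := Invol.isCyclic_of_unique_involution hDp (fun u w hu hw => by
    have key : ∀ u : ↥D, orderOf u = 2 → (u : S ⧸ E) = π x := fun u hu => by
      have h2 : (u : S ⧸ E) * u = 1 := by
        have := congrArg Subtype.val (pow_orderOf_eq_one u)
        rwa [hu, SubgroupClass.coe_pow, pow_two] at this
      have hne : (u : S ⧸ E) ≠ 1 := fun e => by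
        have : u = 1 := Subtype.ext e
        rw [this, orderOf_one] at hu
        omega
      refine (h.fix_quot u.2 ?_).resolve_left hne
      calc (u : S ⧸ E) * α = α * (α * u * α) := by rw [← mul_assoc, ← mul_assoc, hα2, one_mul]
        _ = α * u := by rw [hinv _ u.2, inv_eq_of_mul_eq_one_right h2]
    exact Subtype.ext ((key u hu).trans (key w hw).symm))
  obtain ⟨⟨g, p, hp, rfl⟩, hg⟩ := IsCyclic.exists_generator (α := ↥D)
  refine ⟨p, hp, fun c hc => ?_⟩
  obtain ⟨i, hi⟩ := mem_zpowers_iff.1 (hg ⟨π c, mem_map_of_mem _ hc⟩)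
  exact mem_zpowers_iff.2 ⟨i, congrArg Subtype.val hi⟩

theorem C_abelian [Finite S] [E.Normal] {p : S} (hp : p ∈ centralizer (E : Set S))
    (hgen : ∀ c ∈ centralizer (E : Set S), QuotientGroup.mk' E c ∈ zpowers (QuotientGroup.mk' E p))
    {c d : S} (hc : c ∈ centralizer (E : Set S)) (hd : d ∈ centralizer (E : Set S)) : c * d = d * c := by
  have key : ∀ c ∈ centralizer (E : Set S), ∃ e ∈ E, ∃ i : ℤ, c = e * p ^ i := by
    intro c hc
    obtain ⟨i, hi⟩ := mem_zpowers_iff.1 (hgen c hc)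
    refine ⟨c * (p ^ i)⁻¹, ?_, i, by group⟩
    rw [← mk_one_iff (E := E), map_mul, map_inv, map_zpow, hi, mul_inv_cancel]
  obtain ⟨e, he, i, rfl⟩ := key c hc
  obtain ⟨f, hf, j, rfl⟩ := key d hd
  have c1 : Commute e f := h.th.el.comm he hf
  have c2 : Commute p e := El.C_comm hp he
  have c3 : Commute p f := El.C_comm hp hf
  exact (c1.mul_right (c2.zpow_left j).symm).mul_left
    ((c3.zpow_left i).mul_right (Commute.zpow_zpow (Commute.refl p) i j))

/-- the bound when `a` inverts the centralizer modulo `E` -/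
theorem good_inv [Finite S] (hai : AllInv E a) {K N : Subgroup S} (hs : Sec K N) :
    Nat.card K ≤ 16 * Nat.card N := by
  haveI := h.th.el.normal
  haveI := h.th.el.C_normal
  haveI : Fact (Nat.Prime 2) := ⟨Nat.prime_two⟩
  set C := centralizer (E : Set S) with hC
  set π := QuotientGroup.mk' E with hπ
  obtain ⟨p, hp, hgen⟩ := h.quot_cyclic hai
  have hab : ∀ {c d : S}, c ∈ C → d ∈ C → c * d = d * c := fun hc hd => h.C_abelian hp hgen hc hd
  set P := π p with hP
  set Y := (K ⊓ C).map π with hY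
  set W := (N ⊓ C).map π with hW
  have hsqW : ∀ y ∈ Y, y * y ∈ W := by
    rintro _ ⟨k, hk, rfl⟩
    exact ⟨k * k, ⟨hs.sq k hk.1, mul_mem hk.2 hk.2⟩, map_mul _ _ _⟩
  have hYP : Y ≤ zpowers P := by
    rintro _ ⟨k, hk, rfl⟩
    exact hgen k hk.2
  have huniq : ∀ y z : S ⧸ E, y ∈ zpowers P → z ∈ zpowers P → y * y = 1 → z * z = 1 → y ≠ 1 → z ≠ 1 → y = z := by
    have key : ∀ y : S ⧸ E, y ∈ zpowers P → y * y = 1 → y ≠ 1 → y = π x := by
      intro y hy hy2 hy1
      obtain ⟨i, rfl⟩ := mem_zpowers_iff.1 hy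
      have hmem : P ^ i ∈ C.map π := zpow_mem (mem_map_of_mem _ hp) i
      refine (h.fix_quot hmem ?_).resolve_left hy1
      obtain ⟨c, hc, hcy⟩ := hmem
      rw [← hcy] at hy2 ⊢
      have h1 : π a * π c * π a = (π c)⁻¹ :=
        mul_eq_one_iff_eq_inv.1 (by rw [← map_mul, ← map_mul, ← map_mul]; exact mk_one_iff.2 (hai c hc))
      rw [inv_eq_of_mul_eq_one_right hy2] at h1
      calc π c * π a = π a * (π a * π c * π a) := by
            rw [← mul_assoc, ← mul_assoc, ← map_mul π a a, h.th.a2, map_one, one_mul]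
        _ = π a * π c := by rw [h1]
    exact fun y z hy hz hy2 hz2 hy1 hz1 => (key y hy hy2 hy1).trans (key z hz hz2 hz1).symm
  have hYW : Nat.card Y ≤ 2 * Nat.card W :=
    card_double_cyclic hYP hsqW fun y z hy hz => huniq y z (hYP hy) (hYP hz)
  have hlev : Nat.card (K.map (QuotientGroup.mk' C)) ≤ 4 * Nat.card (N.map (QuotientGroup.mk' C)) :=
    level_one h.th.two h.th.el h.th.card hs
  have hNpos : 0 < Nat.card (N.map (QuotientGroup.mk' C)) := Nat.card_pos
  by_cases hKle : K ≤ C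
  · refine card_le_of_layers h.th.el.le_centralizer (i := 1) (j := 2) (l := 8) (by norm_num) ?_ hYW
      (layer_eight h.th.card)
    have : K.map (QuotientGroup.mk' C) = ⊥ := by
      rw [eq_bot_iff]
      rintro _ ⟨g, hg, rfl⟩
      exact (QuotientGroup.eq_one_iff g).2 (hKle hg)
    rw [one_mul, this, card_bot]
    exact hNpos
  obtain ⟨k₀, hk₀, hk₀C⟩ := SetLike.not_le_iff_exists.1 hKle
  have hmove := move h.th.el hs hk₀ hk₀C
  by_cases hKC : Nat.card (K.map (QuotientGroup.mk' C)) ≤ 2 * Nat.card (N.map (QuotientGroup.mk' C))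
  · exact card_le_of_layers h.th.el.le_centralizer (i := 2) (j := 2) (l := 4) (by norm_num) hKC hYW
      (layer_four h.th.two h.th.card hmove)
  by_cases hYW1 : Nat.card Y ≤ 1 * Nat.card W
  · exact card_le_of_layers h.th.el.le_centralizer (i := 4) (j := 1) (l := 4) (by norm_num) hlev hYW1
      (layer_four h.th.two h.th.card hmove)
  -- the squares reach the central element
  have hXY : π x ∈ Y := by
    obtain ⟨y, hy, hy1⟩ := Y.bot_or_exists_ne_one.resolve_left (fun e => hYW1 (by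
      rw [e, card_bot, one_mul]; exact Nat.card_pos))
    obtain ⟨j, hj⟩ := (IsPGroup.iff_orderOf.1 (h.th.two.to_quotient E)) y
    obtain ⟨i, rfl⟩ : ∃ i, j = i + 1 := ⟨j - 1, by
      rcases j with _ | j
      · exact absurd (orderOf_eq_one_iff.1 (hj.trans (pow_zero 2))) hy1
      · omega⟩
    have h2 : y ^ 2 ^ i * y ^ 2 ^ i = 1 := by
      rw [← pow_add, ← two_mul, ← pow_succ', ← hj, pow_orderOf_eq_one]
    have h1 : y ^ 2 ^ i ≠ 1 := fun e => by
      have := Nat.le_of_dvd (by positivity) (orderOf_dvd_of_pow_eq_one e)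
      rw [hj, pow_succ] at this
      have := Nat.two_pow_pos i
      omega
    have hx1 : π x ≠ 1 := fun e => h.xE (mk_one_iff.1 e)
    exact huniq _ _ (hYP (pow_mem hy _)) (hgen x h.xC) h2 (by rw [← map_mul]; exact mk_one_iff.2 h.xx) h1 hx1 ▸
      pow_mem hy _
  obtain ⟨y, hy, hyX⟩ := hXY
  have heyx : y⁻¹ * x ∈ E := mk_eq_iff'.1 hyX
  have hz : x * x ∈ N ⊓ E := by
    refine ⟨?_, h.xx⟩
    have h1 : x * x = y * y := by
      calc x * x = y * (y⁻¹ * x) * (y * (y⁻¹ * x)) := by group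
        _ = y * ((y⁻¹ * x) * y) * (y⁻¹ * x) := by group
        _ = y * y * ((y⁻¹ * x) * (y⁻¹ * x)) := by rw [← El.C_comm hy.2 heyx]; group
        _ = y * y := by rw [h.th.el.sq _ heyx, mul_one]
    rw [h1]
    exact hs.sq y hy.1
  have l2 : (¬ E ≤ K ∨ ∃ z' ∈ N ⊓ E, z' ≠ 1 ∧ z' ≠ x * x) → Nat.card K ≤ 16 * Nat.card N := fun hh =>
    card_le_of_layers h.th.el.le_centralizer (i := 4) (j := 2) (l := 2) (by norm_num) hlev hYW
      (layer_two h.th.two h.th.card hz h.z1 hh)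
  by_cases hEK : ¬ E ≤ K
  · exact l2 (Or.inl hEK)
  push Not at hEK
  by_cases hcase : ∃ z' ∈ N ⊓ E, z' ≠ 1 ∧ z' ≠ x * x
  · exact l2 (Or.inr hcase)
  push Not at hcase
  have hdisp : ∀ k ∈ K, ∀ e ∈ E, k * e * k⁻¹ * e = 1 ∨ k * e * k⁻¹ * e = x * x := fun k hk e he => by
    by_cases h1 : k * e * k⁻¹ * e = 1
    · exact Or.inl h1
    · exact Or.inr (hcase _ (hs.disp h.th.el hk (hEK he) he) h1)
  -- a second fixed element
  obtain ⟨u, huE, hua, hu1, huz⟩ : ∃ u ∈ E, a * u = u * a ∧ u ≠ 1 ∧ u ≠ x * x := by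
    by_cases hzv : x * x = q a e0
    · exact ⟨q a x, h.qx, h.th.q_fixed h.qx, h.w_ne.1, fun e => h.w_ne.2 (e.trans hzv)⟩
    · exact ⟨q a e0, h.v_mem, h.v_fix, h.v1, Ne.symm hzv⟩
  have he0f : ¬ a * e0 = e0 * a := fun e => h.v1 (by
    rw [h.th.q_self h.e0E, e, mul_inv_cancel_right, h.th.el.sq _ h.e0E])
  have hgen8 : ∀ g : S, g * u = u * g → g * e0 = e0 * g → g ∈ C := fun g hgu hge =>
    gen_eight h.th.two h.th.el h.th.card h.xx huE h.e0E h.z1 hu1 (Ne.symm huz)
      ⟨fun e => he0f (by rw [e, mul_one, one_mul]), fun e => he0f (by rw [e]; exact h.zc a),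
        fun e => he0f (by rw [e]; exact hua), fun e => he0f (by
          rw [e]; exact (Commute.mul_right (h.zc a : Commute a (x * x)) hua))⟩
      (h.zc g) hgu hge
  -- all four transvections occur
  have hhom : ∀ k ∈ K, ∀ k' ∈ K, ∀ e ∈ E, k * k' * e * (k * k')⁻¹ * e = k * e * k⁻¹ * e * (k' * e * k'⁻¹ * e) := by
    intro k hk k' hk' e he
    set d := k' * e * k'⁻¹ * e with hd
    have hdc : k * d * k⁻¹ = d := by
      rcases hdisp k' hk' e he with e' | e' <;> rw [hd, e']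
      · group
      · rw [h.zc k, mul_inv_cancel_right]
    have hdE : d ∈ E := mul_mem (h.th.el.normal.conj_mem e he k') he
    calc k * k' * e * (k * k')⁻¹ * e = k * (d * e⁻¹) * k⁻¹ * e := by rw [hd]; group
      _ = k * d * k⁻¹ * (k * e⁻¹ * k⁻¹ * e) := by group
      _ = d * (k * e * k⁻¹ * e) := by rw [hdc, h.th.el.inv_eq he]
      _ = _ := h.th.el.comm hdE (mul_mem (h.th.el.normal.conj_mem e he k) he)
  let ψ : ↥K →* ↥E × ↥E := MonoidHom.mk'
    (fun k => (⟨k * u * (k : S)⁻¹ * u, mul_mem (h.th.el.normal.conj_mem u huE k) huE⟩,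
      ⟨k * e0 * (k : S)⁻¹ * e0, mul_mem (h.th.el.normal.conj_mem e0 h.e0E k) h.e0E⟩))
    fun k k' => Prod.ext (Subtype.ext (hhom k k.2 k' k'.2 u huE)) (Subtype.ext (hhom k k.2 k' k'.2 e0 h.e0E))
  have hker : ψ.ker = C.subgroupOf K := by
    ext k
    rw [MonoidHom.mem_ker, mem_subgroupOf]
    constructor
    · intro hk
      have e1 : (k : S) * u * (k : S)⁻¹ * u = 1 := congrArg (fun w : ↥E × ↥E => (w.1 : S)) hk
      have e2 : (k : S) * e0 * (k : S)⁻¹ * e0 = 1 := congrArg (fun w : ↥E × ↥E => (w.2 : S)) hk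
      exact hgen8 k (mul_inv_eq_iff_eq_mul.1 ((mul_eq_one_iff_eq_inv.1 e1).trans (h.th.el.inv_eq huE)))
        (mul_inv_eq_iff_eq_mul.1 ((mul_eq_one_iff_eq_inv.1 e2).trans (h.th.el.inv_eq h.e0E)))
    · intro hk
      refine Prod.ext (Subtype.ext ?_) (Subtype.ext ?_)
      · show (k : S) * u * (k : S)⁻¹ * u = 1
        rw [El.C_fix hk huE, h.th.el.sq u huE]
      · show (k : S) * e0 * (k : S)⁻¹ * e0 = 1
        rw [El.C_fix hk h.e0E, h.th.el.sq e0 h.e0E]
  have hcardK := card_map_mul C K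
  have hψ := ψ.ker.card_mul_index
  rw [index_ker, hker, ← inf_subgroupOf_left, Nat.card_congr (subgroupOfEquivOfLe inf_le_left).toEquiv, hcardK,
    mul_comm (Nat.card (K.map _))] at hψ
  have hψ' : Nat.card ψ.range = Nat.card (K.map (QuotientGroup.mk' C)) :=
    Nat.eq_of_mul_eq_mul_left Nat.card_pos hψ
  have h4 : 4 ≤ Nat.card ψ.range := by
    rw [hψ']
    have h5 := double_of_lt (h.th.two.to_quotient C) (H := K.map (QuotientGroup.mk' C))
      (H' := N.map (QuotientGroup.mk' C)) (k := 1) (by omega)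
    omega
  set z : ↥E := ⟨x * x, h.xx⟩ with hzdef
  have hrange : (ψ.range : Set (↥E × ↥E)) = {(1, 1), (1, z), (z, 1), (z, z)} := by
    refine Set.eq_of_subset_of_ncard_le ?_ ?_ (Set.toFinite _)
    · rintro _ ⟨k, rfl⟩
      rcases hdisp k k.2 u huE with e1 | e1 <;> rcases hdisp k k.2 e0 h.e0E with e2 | e2
      · left; exact Prod.ext (Subtype.ext e1) (Subtype.ext e2)
      · right; left; exact Prod.ext (Subtype.ext e1) (Subtype.ext e2)
      · right; right; left; exact Prod.ext (Subtype.ext e1) (Subtype.ext e2)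
      · right; right; right; exact Prod.ext (Subtype.ext e1) (Subtype.ext e2)
    · refine le_trans (((Set.ncard_insert_le _ _).trans (Nat.add_le_add_right ((Set.ncard_insert_le _ _).trans
        (Nat.add_le_add_right ((Set.ncard_insert_le _ _).trans (by rw [Set.ncard_singleton])) 1)) 1))) (h4.trans (le_of_eq (Nat.card_coe_set_eq _)))
  obtain ⟨⟨c, hc⟩, hcψ⟩ : ((1, z) : ↥E × ↥E) ∈ ψ.range := by
    rw [← SetLike.mem_coe, hrange]; simp
  have hcu : c * u * c⁻¹ = u := by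
    have e1 : c * u * c⁻¹ * u = 1 := congrArg (fun w : ↥E × ↥E => (w.1 : S)) hcψ
    exact (mul_eq_one_iff_eq_inv.1 e1).trans (h.th.el.inv_eq huE)
  have hce0 : c * e0 * c⁻¹ = x * x * e0 := by
    have e1 : c * e0 * c⁻¹ * e0 = x * x := congrArg (fun w : ↥E × ↥E => (w.2 : S)) hcψ
    rw [eq_mul_inv_of_mul_eq e1, h.th.el.inv_eq h.e0E]
  by_cases hzv : x * x = q a e0
  · -- `c` acts as `a`
    exfalso
    have hzv' : a * e0 * a⁻¹ = x * x * e0 := by
      rw [hzv, h.th.q_self h.e0E, mul_assoc (a * e0 * a⁻¹), h.th.el.sq _ h.e0E, mul_one]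
    have hmem : a⁻¹ * c ∈ C := by
      refine hgen8 _ (mul_inv_eq_iff_eq_mul.1 ?_) (mul_inv_eq_iff_eq_mul.1 ?_)
      · calc a⁻¹ * c * u * (a⁻¹ * c)⁻¹ = a⁻¹ * (c * u * c⁻¹) * a := by group
          _ = u := by rw [hcu, mul_assoc, ← hua, inv_mul_cancel_left]
      · calc a⁻¹ * c * e0 * (a⁻¹ * c)⁻¹ = a⁻¹ * (c * e0 * c⁻¹) * a := by group
          _ = e0 := by rw [hce0, ← hzv']; group
    have hyE : y ∉ E := fun hyE => h.xE (by simpa using mul_mem hyE heyx)
    have hcom : y * c * y⁻¹ * c⁻¹ = q a y⁻¹ := by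
      set c1 := a⁻¹ * c with hc1
      have hca : c = a * c1 := by rw [hc1, mul_inv_cancel_left]
      rw [hca]
      calc y * (a * c1) * y⁻¹ * (a * c1)⁻¹ = y * a * (c1 * y⁻¹) * c1⁻¹ * a⁻¹ := by group
        _ = y * a * y⁻¹ * a := by rw [hab hmem (inv_mem hy.2), h.th.a_inv]; group
        _ = q a y⁻¹ := by simp only [q, inv_inv]
    have hqy : q a y⁻¹ ∈ E := by
      have hax : a * y * a * y ∈ E := hai y hy.2
      rw [← mk_one_iff (E := E)] at hax ⊢
      simp only [q, inv_inv, map_mul, map_inv, ← hπ] at hax ⊢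
      have hy2 : π y * π y = 1 := by
        rw [hyX, ← map_mul]; exact mk_one_iff.2 h.xx
      rw [inv_eq_of_mul_eq_one_right hy2]
      calc π y * π a * π y * π a = (π a)⁻¹ * (π a * π y * π a * π y) * π a := by group
        _ = 1 := by rw [hax]; group
    have hne : q a y⁻¹ ≠ 1 ∧ q a y⁻¹ ≠ q a e0 :=
      ⟨fun e => hyE (inv_mem_iff.1 (h.th.fix_mod h.e0E (inv_mem hy.2) (Or.inl e))),
        fun e => hyE (inv_mem_iff.1 (h.th.fix_mod h.e0E (inv_mem hy.2) (Or.inr e)))⟩
    have hmemN : q a y⁻¹ ∈ N ⊓ E := ⟨hcom ▸ hs.comm hy.1 hc, hqy⟩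
    exact hne.2 ((hcase _ hmemN hne.1).trans hzv)
  -- `c` acts as the commutator of `a` with an element moving `v`
  have huv : u = q a e0 ∨ q a e0 = 1 ∨ q a e0 = u ∨ q a e0 = x * x * u := by
    rcases h.th.fixed_cases h.xx (h.zc a) huE hua h.z1 hu1 (Ne.symm huz) h.v_mem h.v_fix with e | e | e | e
    · exact Or.inr (Or.inl e)
    · exact absurd e.symm hzv
    · exact Or.inr (Or.inr (Or.inl e))
    · exact Or.inr (Or.inr (Or.inr e))
  obtain ⟨⟨g, hg⟩, hgψ⟩ : ((z, 1) : ↥E × ↥E) ∈ ψ.range := by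
    rw [← SetLike.mem_coe, hrange]; simp
  have hgu : g * u * g⁻¹ = x * x * u := by
    have e1 : g * u * g⁻¹ * u = x * x := congrArg (fun w : ↥E × ↥E => (w.1 : S)) hgψ
    rw [eq_mul_inv_of_mul_eq e1, h.th.el.inv_eq huE]
  have hge0 : g * e0 * g⁻¹ = e0 := by
    have e1 : g * e0 * g⁻¹ * e0 = 1 := congrArg (fun w : ↥E × ↥E => (w.2 : S)) hgψ
    exact (mul_eq_one_iff_eq_inv.1 e1).trans (h.th.el.inv_eq h.e0E)
  have hgv : g * q a e0 * g⁻¹ = x * x * q a e0 := by
    rcases huv with e | e | e | e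
    · rw [← e]; exact hgu
    · exact absurd e h.v1
    · rw [e]; exact hgu
    · rw [e, show g * (x * x * u) * g⁻¹ = g * (x * x) * g⁻¹ * (g * u * g⁻¹) by group, h.zc g,
        mul_inv_cancel_right, hgu]
  have hzE := h.xx
  have hvE := h.v_mem
  set v := q a e0 with hv
  have hae0 : a * e0 * a⁻¹ = v * e0 := by
    rw [hv, h.th.q_self h.e0E, mul_assoc (a * e0 * a⁻¹), h.th.el.sq _ h.e0E, mul_one]
  set y0 := g⁻¹ * a * g * a with hy0
  have hgiv : g⁻¹ * v * g = x * x * v := by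
    calc g⁻¹ * v * g = g⁻¹ * (x * x * (x * x * v)) * g := by rw [← mul_assoc (x * x), h.th.el.sq _ hzE, one_mul]
      _ = g⁻¹ * (x * x * (g * v * g⁻¹)) * g := by rw [hgv]
      _ = g⁻¹ * (x * x * g) * v := by group
      _ = x * x * v := by rw [← h.zc g, inv_mul_cancel_left]
  have hy0u : y0 * u * y0⁻¹ = u := by
    calc y0 * u * y0⁻¹ = g⁻¹ * (a * (g * (a * u * a⁻¹) * g⁻¹) * a⁻¹) * g := by rw [hy0]; group
      _ = g⁻¹ * (g * u * g⁻¹) * g := by
        rw [hua, mul_inv_cancel_right, hgu, show a * (x * x * u) = x * x * u * a from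
          (Commute.mul_right (h.zc a : Commute a (x * x)) hua), mul_inv_cancel_right]
      _ = u := by group
  have hy0e0 : y0 * e0 * y0⁻¹ = x * x * e0 := by
    have ca : Commute a (x * x * v) := Commute.mul_right (h.zc a : Commute a (x * x)) h.v_fix
    calc y0 * e0 * y0⁻¹ = g⁻¹ * (a * (g * (a * e0 * a⁻¹) * g⁻¹) * a⁻¹) * g := by rw [hy0]; group
      _ = g⁻¹ * (a * (x * x * v * e0) * a⁻¹) * g := by
        rw [hae0, show g * (v * e0) * g⁻¹ = g * v * g⁻¹ * (g * e0 * g⁻¹) by group, hgv, hge0]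
      _ = g⁻¹ * (x * x * v * (v * e0)) * g := by
        rw [show a * (x * x * v * e0) * a⁻¹ = a * (x * x * v) * a⁻¹ * (a * e0 * a⁻¹) by group, ca.eq,
          mul_inv_cancel_right, hae0]
      _ = g⁻¹ * (x * x * e0) * g := by
        rw [show x * x * v * (v * e0) = x * x * (v * v) * e0 by group, h.th.el.sq v hvE, mul_one]
      _ = g⁻¹ * (x * x) * g * (g⁻¹ * (g * e0 * g⁻¹) * g) := by rw [hge0]; group
      _ = x * x * e0 := by
        rw [mul_assoc g⁻¹, ← h.zc g, inv_mul_cancel_left]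
        group
  have hinv0 : a * y0 * a = y0⁻¹ := by
    rw [hy0, show a * (g⁻¹ * a * g * a) * a = a * g⁻¹ * a * g * (a * a) by group, h.th.a2, mul_one, mul_inv_rev,
      mul_inv_rev, mul_inv_rev, inv_inv, h.th.a_inv]
    group
  have hd0 : y0 * a * y0⁻¹ * a = y0 * y0 := by
    rw [← hinv0, show y0 * a * (a * y0 * a) * a = y0 * (a * a) * y0 * (a * a) by group, h.th.a2, mul_one, mul_one]
  have hc1 : c * y0⁻¹ ∈ C := by
    refine hgen8 _ (mul_inv_eq_iff_eq_mul.1 ?_) (mul_inv_eq_iff_eq_mul.1 ?_)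
    · calc c * y0⁻¹ * u * (c * y0⁻¹)⁻¹ = c * (y0⁻¹ * u * y0) * c⁻¹ := by group
        _ = c * (y0⁻¹ * (y0 * u * y0⁻¹) * y0) * c⁻¹ := by rw [hy0u]
        _ = c * u * c⁻¹ := by group
        _ = u := hcu
    · calc c * y0⁻¹ * e0 * (c * y0⁻¹)⁻¹ = c * (y0⁻¹ * e0 * y0) * c⁻¹ := by group
        _ = c * (y0⁻¹ * (x * x * (x * x * e0)) * y0) * c⁻¹ := by
          rw [← mul_assoc (x * x) (x * x), h.th.el.sq _ hzE, one_mul]
        _ = c * (y0⁻¹ * (x * x) * (y0 * e0 * y0⁻¹) * y0) * c⁻¹ := by rw [hy0e0]; group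
        _ = c * ((y0⁻¹ * (x * x * y0)) * e0) * c⁻¹ := by group
        _ = c * (x * x) * c⁻¹ * (c * e0 * c⁻¹) := by rw [← h.zc y0, inv_mul_cancel_left]; group
        _ = e0 := by rw [h.zc c, mul_inv_cancel_right, hce0, ← mul_assoc, h.th.el.sq _ hzE, one_mul]
  have hy0C : y0 ∉ C ∧ y0 * a ∉ C := by
    refine ⟨fun hm => h.z1 ?_, fun hm => hzv ?_⟩
    · have := (El.C_fix hm h.e0E).symm.trans hy0e0
      exact mul_right_cancel (this.symm.trans (one_mul e0).symm)
    · have h1 := El.C_fix hm h.e0E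
      rw [show y0 * a * e0 * (y0 * a)⁻¹ = y0 * (a * e0 * a⁻¹) * y0⁻¹ by group, hae0,
        show y0 * (v * e0) * y0⁻¹ = y0 * v * y0⁻¹ * (y0 * e0 * y0⁻¹) by group, hy0e0] at h1
      have hy0v : y0 * v * y0⁻¹ = v := by
        rcases huv with e | e | e | e
        · rw [← e]; exact hy0u
        · exact absurd e h.v1
        · rw [e]; exact hy0u
        · rw [e, show y0 * (x * x * u) * y0⁻¹ = y0 * (x * x) * y0⁻¹ * (y0 * u * y0⁻¹) by group, h.zc y0,
            mul_inv_cancel_right, hy0u]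
      rw [hy0v, ← mul_assoc] at h1
      have h2 : v * (x * x) = 1 := mul_right_cancel (h1.trans (one_mul e0).symm)
      exact ((mul_eq_one_iff_eq_inv.1 h2).trans (h.th.el.inv_eq hzE)).symm
  set c1 := c * y0⁻¹ with hc1def
  have hcc : c * c = c1 * (y0 * c1 * y0⁻¹) * (y0 * y0) := by rw [hc1def]; group
  have hc1' : y0 * c1 * y0⁻¹ ∈ C := h.th.el.C_normal.conj_mem c1 hc1 y0
  have hy00C : y0 * y0 ∈ C := by
    refine hgen8 _ (mul_inv_eq_iff_eq_mul.1 ?_) (mul_inv_eq_iff_eq_mul.1 ?_)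
    · rw [show y0 * y0 * u * (y0 * y0)⁻¹ = y0 * (y0 * u * y0⁻¹) * y0⁻¹ by group, hy0u, hy0u]
    · rw [show y0 * y0 * e0 * (y0 * y0)⁻¹ = y0 * (y0 * e0 * y0⁻¹) * y0⁻¹ by group, hy0e0,
        show y0 * (x * x * e0) * y0⁻¹ = y0 * (x * x) * y0⁻¹ * (y0 * e0 * y0⁻¹) by group, h.zc y0,
        mul_inv_cancel_right, hy0e0, ← mul_assoc, h.th.el.sq _ hzE, one_mul]
  -- `y0 * y0` is not a square modulo `E`
  set D2 := zpowers (P * P) with hD2
  have hns : π (y0 * y0) ∉ D2 := by
    intro hmem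
    obtain ⟨i, hi⟩ := mem_zpowers_iff.1 hmem
    set w := (p ^ i)⁻¹ with hwdef
    have hwC : w ∈ C := inv_mem (zpow_mem hp i)
    have he : y0 * y0 * (q a w)⁻¹ ∈ E := by
      rw [← mk_one_iff (E := E), map_mul, map_inv, ← hπ, ← hi]
      have hqw : π (q a w) = (π w)⁻¹ * (π w)⁻¹ := by
        have h1 : π a * π w * π a = (π w)⁻¹ :=
          mul_eq_one_iff_eq_inv.1 (by rw [← map_mul, ← map_mul, ← map_mul]; exact mk_one_iff.2 (hai w hwC))
        calc π (q a w) = (π w)⁻¹ * (π a * π w * π a) := by simp only [q, map_mul, map_inv]; group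
          _ = _ := by rw [h1]
      rw [hqw, hwdef, map_inv, map_zpow, ← hP, inv_inv, (Commute.refl P).mul_zpow]
      group
    obtain ⟨k, hk, hky⟩ := h.adjust (y := y0) he hwC (by rw [hd0]; group)
    rcases h.th.hT (k * y0) hky (fun f hf hfa => by
      have hyf : y0 * f * y0⁻¹ = f := by
        rcases h.th.fixed_cases hzE (h.zc a) huE hua h.z1 hu1 (Ne.symm huz) hf hfa with rfl | rfl | rfl | rfl
        · group
        · rw [h.zc y0, mul_inv_cancel_right]
        · exact hy0u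
        · rw [show y0 * (x * x * u) * y0⁻¹ = y0 * (x * x) * y0⁻¹ * (y0 * u * y0⁻¹) by group, h.zc y0,
            mul_inv_cancel_right, hy0u]
      calc k * y0 * f = k * (y0 * f * y0⁻¹) * y0 := by group
        _ = f * (k * y0) := by rw [hyf, El.C_comm hk hf, mul_assoc]) with h1 | h1
    · exact hy0C.1 (by simpa using mul_mem (inv_mem hk) h1)
    · refine hy0C.2 ?_
      have := mul_mem (inv_mem hk) h1
      rwa [show k⁻¹ * (k * y0 * a) = y0 * a by group] at this
  have hparity : ∀ d ∈ zpowers P, d ∈ D2 ∨ d * P⁻¹ ∈ D2 := by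
    intro d hd
    obtain ⟨i, rfl⟩ := mem_zpowers_iff.1 hd
    rcases Int.even_or_odd i with ⟨j, rfl⟩ | ⟨j, rfl⟩
    · exact Or.inl (mem_zpowers_iff.2 ⟨j, by rw [(Commute.refl P).mul_zpow, zpow_add]⟩)
    · refine Or.inr (mem_zpowers_iff.2 ⟨j, ?_⟩)
      rw [(Commute.refl P).mul_zpow, two_mul, zpow_add, zpow_add, zpow_one, mul_inv_cancel_right]
  have hsq2 : π c1 * π (y0 * c1 * y0⁻¹) ∈ D2 := by
    have hconjsq : ∀ d ∈ D2, ∀ g : S, π g * d * (π g)⁻¹ ∈ D2 := by
      intro d hd g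
      obtain ⟨i, rfl⟩ := mem_zpowers_iff.1 hd
      have hgp : g * p * g⁻¹ ∈ C := h.th.el.C_normal.conj_mem p hp g
      obtain ⟨j, hj⟩ := mem_zpowers_iff.1 (hgen _ hgp)
      refine mem_zpowers_iff.2 ⟨j * i, ?_⟩
      rw [← conj_zpow, show π g * (P * P) * (π g)⁻¹ = π g * P * (π g)⁻¹ * (π g * P * (π g)⁻¹) by group,
        show π g * P * (π g)⁻¹ = P ^ j from by rw [hj, hP, map_mul, map_mul, map_inv], ← (Commute.refl P).mul_zpow,
        zpow_mul]
    rcases hparity _ (hgen c1 hc1) with h1 | h1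
    · refine mul_mem h1 ?_
      rw [map_mul, map_mul, map_inv]
      exact hconjsq _ h1 y0
    · rcases hparity _ (hgen _ hc1') with h2 | h2
      · refine mul_mem ?_ h2
        have h3 := hconjsq _ h2 y0⁻¹
        rwa [← map_inv π y0⁻¹, ← map_mul, ← map_mul,
          show y0⁻¹ * (y0 * c1 * y0⁻¹) * y0⁻¹⁻¹ = c1 by group] at h3
      · have h3 := mul_mem (mul_mem h1 h2) (mem_zpowers (P * P))
        have cP : Commute P⁻¹ (π (y0 * c1 * y0⁻¹)) := by
          obtain ⟨i, hi⟩ := mem_zpowers_iff.1 (hgen _ hc1')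
          rw [← hi]
          exact ((Commute.refl P).inv_left).zpow_right i
        rwa [show π c1 * P⁻¹ * (π (y0 * c1 * y0⁻¹) * P⁻¹) * (P * P) =
          π c1 * (P⁻¹ * π (y0 * c1 * y0⁻¹)) * P by group, cP.eq,
          show π c1 * (π (y0 * c1 * y0⁻¹) * P⁻¹) * P = π c1 * π (y0 * c1 * y0⁻¹) by group] at h3
  have hccW : π (c * c) ∈ W := mem_map_of_mem _ ⟨hs.sq c hc, by
    rw [hcc]; exact mul_mem (mul_mem hc1 hc1') hy00C⟩
  have hccD : π (c * c) ∉ D2 := fun hm => hns (by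
    rw [hcc, map_mul, map_mul] at hm
    have := mul_mem (inv_mem hsq2) hm
    rwa [inv_mul_cancel_left] at this)
  have hgenW : Y ≤ zpowers (π (c * c)) := by
    refine hYP.trans ?_
    obtain ⟨i, hi⟩ := mem_zpowers_iff.1 (hgen (c * c) (by rw [hcc]; exact mul_mem (mul_mem hc1 hc1') hy00C))
    rcases Int.even_or_odd i with ⟨j, rfl⟩ | hodd
    · exact absurd (mem_zpowers_iff.2 ⟨j, by rw [← hi, (Commute.refl P).mul_zpow, zpow_add]⟩) hccD
    · obtain ⟨n, hn⟩ := (IsPGroup.iff_orderOf.1 (h.th.two.to_quotient E)) P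
      obtain ⟨r, s, hrs⟩ : IsCoprime i ((2 : ℤ) ^ n) := by
        refine IsCoprime.pow_right ?_
        obtain ⟨j, rfl⟩ := hodd
        exact ⟨1, -j, by ring⟩
      refine zpowers_le.2 (mem_zpowers_iff.2 ⟨r, ?_⟩)
      rw [← hi, ← zpow_mul]
      have h1 : P ^ (i * r + 2 ^ n * s) = P := by rw [mul_comm i, mul_comm _ s, hrs, zpow_one]
      have h2 : P ^ ((2 : ℤ) ^ n) = 1 := by
        rw [show ((2 : ℤ) ^ n) = ((2 ^ n : ℕ) : ℤ) by push_cast; rfl, zpow_natCast, ← hn, pow_orderOf_eq_one]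
      rwa [zpow_add, zpow_mul P ((2 : ℤ) ^ n) s, h2, one_zpow, mul_one] at h1
  have hY1 : Nat.card Y ≤ 1 * Nat.card W := by
    rw [one_mul]
    exact card_le_of_le (hgenW.trans (zpowers_le.2 hccW))
  exact absurd hY1 hYW1

end ThreeX

/-- a self-centralizing normal elementary abelian subgroup of order eight -/
theorem good_self [Finite S] (hP : IsPGroup 2 S) (hE : El E) (hcard : Nat.card E = 8)
    (hCE : centralizer (E : Set S) ≤ E) : SecRankFour.Good (⊤ : Subgroup S) := by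
  intro K N _ hNK hn hsq
  have hs : Sec K N := ⟨hNK, hn, hsq⟩
  haveI := hE.normal
  haveI := hE.C_normal
  have hNpos : 0 < Nat.card (N.map (QuotientGroup.mk' (centralizer (E : Set S)))) := Nat.card_pos
  have hY : Nat.card ((K ⊓ centralizer (E : Set S)).map (QuotientGroup.mk' E)) ≤
      1 * Nat.card ((N ⊓ centralizer (E : Set S)).map (QuotientGroup.mk' E)) := by
    have : (K ⊓ centralizer (E : Set S)).map (QuotientGroup.mk' E) = ⊥ := by
      rw [eq_bot_iff]
      rintro _ ⟨g, hg, rfl⟩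
      exact (QuotientGroup.eq_one_iff g).2 (hCE hg.2)
    rw [this, card_bot, one_mul]
    exact Nat.card_pos
  by_cases hKle : K ≤ centralizer (E : Set S)
  · refine card_le_of_layers hE.le_centralizer (i := 1) (j := 1) (l := 8) (by norm_num) ?_ hY (layer_eight hcard)
    have : K.map (QuotientGroup.mk' (centralizer (E : Set S))) = ⊥ := by
      rw [eq_bot_iff]
      rintro _ ⟨g, hg, rfl⟩
      exact (QuotientGroup.eq_one_iff g).2 (hKle hg)
    rw [one_mul, this, card_bot]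
    exact hNpos
  · obtain ⟨k, hk, hkC⟩ := SetLike.not_le_iff_exists.1 hKle
    exact card_le_of_layers hE.le_centralizer (i := 4) (j := 1) (l := 4) (by norm_num)
      (level_one hP hE hcard hs) hY (layer_four hP hcard (move hE hs hk hkC))

/-- elementary abelian sections have order at most sixteen -/
theorem Three.good [Finite S] (h : Three E a) : SecRankFour.Good (⊤ : Subgroup S) := by
  obtain ⟨e0, he0, hv1, hqE⟩ := h.exists_v
  by_cases hCE : centralizer (E : Set S) ≤ E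
  · exact good_self h.two h.el h.card hCE
  obtain ⟨x, hxC, hxE, hxcomm, hqx, hxx, hz1, hzc⟩ := h.socle hCE
  have hX : ThreeX E a e0 x := ⟨h, he0, hv1, hqE, hxC, hxE, hxcomm, hqx, hxx, hz1, hzc⟩
  intro K N _ hNK hn hsq
  by_cases hai : AllInv E a
  · exact hX.good_inv hai ⟨hNK, hn, hsq⟩
  · exact hX.good_not_inv hai ⟨hNK, hn, hsq⟩

end Cfsg.Agent.SelfCentEight
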