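import Cfsg.Agent.SelfCentEight.NotInverted

/-!
Elementary abelian sections when the involution does not invert the centralizer modulo `E`, and bounds for the
layers `K ∩ E` and the action on `E` in general.
-/

set_option autoImplicit false
set_option linter.style.haveILetI false
set_option linter.unusedSectionVars false
set_option maxHeartbeats 400000

namespace Cfsg.Agent.SelfCentEight

open Subgroup
open scoped commutatorElement

variable {S : Type*} [Group S] {E : Subgroup S} {a e0 x : S}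

/-- a subgroup and a normal subgroup of it with all the squares -/
structure Sec (K N : Subgroup S) : Prop where
  le : N ≤ K
  conj : ∀ k ∈ K, ∀ n ∈ N, k * n * k⁻¹ ∈ N
  sq : ∀ k ∈ K, k * k ∈ N

namespace Sec

variable {K N : Subgroup S} (h : Sec K N)
include h

theorem comm {b c : S} (hb : b ∈ K) (hc : c ∈ K) : b * c * b⁻¹ * c⁻¹ ∈ N :=
  SecRankFour.comm_mem h.le h.conj h.sq hb hc

theorem disp (hE : El E) {k e : S} (hk : k ∈ K) (he : e ∈ K) (heE : e ∈ E) : k * e * k⁻¹ * e ∈ N ⊓ E := by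
  refine mem_inf.2 ⟨?_, mul_mem (hE.normal.conj_mem e heE k) heE⟩
  have := h.comm hk he
  rwa [hE.inv_eq heE] at this

end Sec

/-- three elements generate an elementary group of order eight -/
theorem gen_eight [Finite S] (hP : IsPGroup 2 S) (hE : El E) (hcard : Nat.card E = 8) {g s t f : S} (hs : s ∈ E)
    (ht : t ∈ E) (hf : f ∈ E) (hs1 : s ≠ 1) (ht1 : t ≠ 1) (hst : s ≠ t)
    (hf' : f ≠ 1 ∧ f ≠ s ∧ f ≠ t ∧ f ≠ s * t) (hgs : g * s = s * g) (hgt : g * t = t * g) (hgf : g * f = f * g) :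
    g ∈ centralizer (E : Set S) := by
  set H := E ⊓ centralizer ({g} : Set S) with hH
  have m : ∀ u ∈ E, g * u = u * g → u ∈ H := fun u hu e => ⟨hu, mem_centralizer_singleton_iff.2 e.symm⟩
  have h5 : 4 < Nat.card H := by
    by_contra hle
    push Not at hle
    have h4 : Nat.card H = 4 := le_antisymm hle (four_le_card hP (m s hs hgs) (m t ht hgt) hs1 ht1 hst)
    rcases eq_of_card_four h4 (m s hs hgs) (m t ht hgt) hs1 ht1 hst (fun e => hst
      ((mul_eq_one_iff_eq_inv.1 e).trans (hE.inv_eq ht))) (m f hf hgf) with e | e | e | e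
    exacts [hf'.1 e, hf'.2.1 e, hf'.2.2.1 e, hf'.2.2.2 e]
  obtain ⟨k, hk⟩ := exists_card_pow hP H
  have hle8 := card_le_of_le (inf_le_left : H ≤ E)
  have hHE : H = E := eq_of_le_of_card_ge inf_le_left (by
    rw [hcard, hk, show 8 = 2 ^ 3 by norm_num]
    refine Nat.pow_le_pow_right (by norm_num) ?_
    rw [hk, show 4 = 2 ^ 2 by norm_num] at h5
    exact (Nat.pow_lt_pow_iff_right one_lt_two).1 h5)
  exact mem_centralizer_iff.2 fun u hu => mem_centralizer_singleton_iff.1 (hHE.ge hu).2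

section

variable [Finite S] {K N : Subgroup S}

theorem layer_eight (hcard : Nat.card E = 8) :
    Nat.card (K ⊓ E : Subgroup S) ≤ 8 * Nat.card (N ⊓ E : Subgroup S) := by
  have h1 := card_le_of_le (inf_le_right : K ⊓ E ≤ E)
  have h2 : 0 < Nat.card (N ⊓ E : Subgroup S) := Nat.card_pos
  omega

theorem card_not_le (hP : IsPGroup 2 S) (hcard : Nat.card E = 8) (hX : ¬ E ≤ K) :
    Nat.card (K ⊓ E : Subgroup S) ≤ 4 := by
  by_contra hlt
  push Not at hlt
  have h2 := double_of_lt hP (H := K ⊓ E) (H' := (⊥ : Subgroup S)) (k := 2) (by simpa using hlt)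
  simp only [card_bot, mul_one] at h2
  exact hX (inf_eq_right.1 (eq_of_le_of_card_ge inf_le_right (by rw [hcard]; exact h2)))

theorem layer_four (hP : IsPGroup 2 S) (hcard : Nat.card E = 8) (hz : ¬ E ≤ K ∨ ∃ z ∈ N ⊓ E, z ≠ 1) :
    Nat.card (K ⊓ E : Subgroup S) ≤ 4 * Nat.card (N ⊓ E : Subgroup S) := by
  have h2 : 0 < Nat.card (N ⊓ E : Subgroup S) := Nat.card_pos
  rcases hz with hX | ⟨z, hz, hz1⟩
  · have := card_not_le hP hcard hX
    omega
  · have := two_le_card hz hz1
    have := card_le_of_le (inf_le_right : K ⊓ E ≤ E)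
    omega

theorem layer_two (hP : IsPGroup 2 S) (hcard : Nat.card E = 8) {z : S} (hz : z ∈ N ⊓ E) (hz1 : z ≠ 1)
    (hz' : ¬ E ≤ K ∨ ∃ z' ∈ N ⊓ E, z' ≠ 1 ∧ z' ≠ z) :
    Nat.card (K ⊓ E : Subgroup S) ≤ 2 * Nat.card (N ⊓ E : Subgroup S) := by
  rcases hz' with hX | ⟨z', hz', hz1', hne⟩
  · have := card_not_le hP hcard hX
    have := two_le_card hz hz1
    omega
  · have := four_le_card hP hz hz' hz1 hz1' (Ne.symm hne)
    have := card_le_of_le (inf_le_right : K ⊓ E ≤ E)
    omega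

theorem move (hE : El E) (hs : Sec K N) {k : S} (hk : k ∈ K) (hkC : k ∉ centralizer (E : Set S)) :
    ¬ E ≤ K ∨ ∃ z ∈ N ⊓ E, z ≠ 1 := by
  by_cases hX : E ≤ K
  · refine Or.inr ?_
    by_contra hno
    push Not at hno
    refine hkC (mem_centralizer_iff.2 fun e he => ?_)
    have h1 := hno _ (hs.disp hE hk (hX he) he)
    exact (mul_inv_eq_iff_eq_mul.1 ((mul_eq_one_iff_eq_inv.1 h1).trans (hE.inv_eq he))).symm
  · exact Or.inl hX

/-- the action on `E`: a group of order at most eight with elementary abelian sections of order at most four -/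
theorem level_one [E.Normal] (hP : IsPGroup 2 S) (hE : El E) (hcard : Nat.card E = 8)
    [(centralizer (E : Set S)).Normal] (hs : Sec K N) :
    Nat.card (K.map (QuotientGroup.mk' (centralizer (E : Set S)))) ≤
      4 * Nat.card (N.map (QuotientGroup.mk' (centralizer (E : Set S)))) := by
  haveI : Fact (Nat.Prime 2) := ⟨Nat.prime_two⟩
  set C := centralizer (E : Set S) with hC
  set π := QuotientGroup.mk' C with hπ
  by_contra hlt
  push Not at hlt
  obtain ⟨P1, hP1n, -, hP1E, hP1card, hP1comm⟩ := Fusion.exists_normal_card_succ hP (⊥ : Subgroup S) E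
    (bot_lt_iff_ne_bot.2 fun e => by rw [e, card_bot] at hcard; omega)
  rw [card_bot] at hP1card
  obtain ⟨L, hLn, hP1L, hLE, hLcard, hLcomm⟩ := Fusion.exists_normal_card_succ hP P1 E
    (lt_of_le_of_ne hP1E fun e => by rw [e, hcard] at hP1card; omega)
  obtain ⟨T, hTn, hLT, hTE, hTcard, hTcomm⟩ := Fusion.exists_normal_card_succ hP L E
    (lt_of_le_of_ne hLE fun e => by rw [e, hcard] at hLcard; omega)
  have hTE' : T = E := eq_of_le_of_card_ge hTE (by rw [hTcard, hLcard, hP1card, hcard])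
  obtain ⟨p, hp, hp1⟩ := P1.bot_or_exists_ne_one.resolve_left (fun e => by rw [e, card_bot] at hP1card; omega)
  obtain ⟨l, hl, hlP⟩ := SetLike.not_le_iff_exists.1 (fun hle : L ≤ P1 => by have := card_le_of_le hle; omega)
  obtain ⟨e, he, heL⟩ := SetLike.not_le_iff_exists.1 (fun hle : E ≤ L => by have := card_le_of_le hle; omega)
  have hl1 : l ≠ 1 := fun hh => hlP (hh ▸ P1.one_mem)
  have hpl : p ≠ l := fun hh => hlP (hh ▸ hp)
  have hfp : ∀ g : S, g * p * g⁻¹ = p := fun g => by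
    have h1 : ⁅p, g⁆ ∈ (⊥ : Subgroup S) := hP1comm (commutator_mem_commutator hp (mem_top g))
    rw [mem_bot, commutatorElement_eq_one_iff_mul_comm] at h1
    rw [← h1, mul_inv_cancel_right]
  have hd : ∀ (W V : Subgroup S), W ≤ E → ⁅W, (⊤ : Subgroup S)⁆ ≤ V → ∀ g : S, ∀ u ∈ W, g * u * g⁻¹ * u ∈ V := by
    intro W V hWE hle g u hu
    have h1 := inv_mem (hle (commutator_mem_commutator hu (mem_top g)))
    rwa [commutatorElement_inv, commutatorElement_def, hE.inv_eq (hWE hu)] at h1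
  let F : S ⧸ C → ↥P1 × ↥L := fun r =>
    (⟨r.out * l * r.out⁻¹ * l, hd L P1 hLE hLcomm _ l hl⟩,
      ⟨r.out * e * r.out⁻¹ * e, hd T L hTE hTcomm _ e (hTE'.ge he)⟩)
  have hCmem : ∀ g : S, g * l * g⁻¹ = l → g * e * g⁻¹ = e → g ∈ C := fun g h1 h2 =>
    gen_eight hP hE hcard (hP1E hp) (hLE hl) he hp1 hl1 hpl
      ⟨fun hh => heL (hh ▸ L.one_mem), fun hh => heL (hh ▸ hP1L hp), fun hh => heL (hh ▸ hl),
        fun hh => heL (hh ▸ mul_mem (hP1L hp) hl)⟩
      (mul_inv_eq_iff_eq_mul.1 (hfp g)) (mul_inv_eq_iff_eq_mul.1 h1) (mul_inv_eq_iff_eq_mul.1 h2)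
  have hF : Function.Injective F := by
    intro r r' hr
    rw [← QuotientGroup.out_eq' r, ← QuotientGroup.out_eq' r']
    have h1 : r.out * l * r.out⁻¹ = r'.out * l * r'.out⁻¹ :=
      mul_right_cancel (congrArg (fun u : ↥P1 × ↥L => (u.1 : S)) hr)
    have h2 : r.out * e * r.out⁻¹ = r'.out * e * r'.out⁻¹ :=
      mul_right_cancel (congrArg (fun u : ↥P1 × ↥L => (u.2 : S)) hr)
    refine QuotientGroup.eq.2 (hCmem _ ?_ ?_)
    · rw [show r.out⁻¹ * r'.out * l * (r.out⁻¹ * r'.out)⁻¹ = r.out⁻¹ * (r'.out * l * r'.out⁻¹) * r.out by group,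
        ← h1]
      group
    · rw [show r.out⁻¹ * r'.out * e * (r.out⁻¹ * r'.out)⁻¹ = r.out⁻¹ * (r'.out * e * r'.out⁻¹) * r.out by group,
        ← h2]
      group
  have hcardF : Nat.card (↥P1 × ↥L) = 8 := by rw [Nat.card_prod, hLcard, hP1card]
  have hG8 : Nat.card (S ⧸ C) ≤ 8 := hcardF ▸ Nat.card_le_card_of_injective F hF
  have hP' : IsPGroup 2 (S ⧸ C) := hP.to_quotient C
  have h8 : 8 * Nat.card (N.map π) ≤ Nat.card (K.map π) :=
    double_of_lt hP' (H := K.map π) (H' := N.map π) (k := 2) hlt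
  have hNpos : 0 < Nat.card (N.map π) := Nat.card_pos
  have hKle : Nat.card (K.map π) ≤ Nat.card (S ⧸ C) := card_le_card_group _
  have hKtop : K.map π = ⊤ := eq_top_of_card_eq _ (by omega)
  have hNbot : N.map π = ⊥ := eq_bot_of_card_eq _ (by omega)
  have hbij : Function.Bijective F := (Nat.bijective_iff_injective_and_card F).2 ⟨hF, by omega⟩
  obtain ⟨r1, hr1⟩ := hbij.2 (1, ⟨l, hl⟩)
  obtain ⟨r2, hr2⟩ := hbij.2 (⟨p, hp⟩, 1)
  have hcomm : r1 * r2 = r2 * r1 := by
    obtain ⟨k1, hk1, rfl⟩ : r1 ∈ K.map π := hKtop ▸ mem_top _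
    obtain ⟨k2, hk2, rfl⟩ : r2 ∈ K.map π := hKtop ▸ mem_top _
    have h1 : π (k1 * k2 * k1⁻¹ * k2⁻¹) ∈ N.map π := mem_map_of_mem _ (hs.comm hk1 hk2)
    rw [hNbot, mem_bot, map_mul, map_mul, map_mul, map_inv, map_inv] at h1
    exact mul_inv_eq_iff_eq_mul.1 (mul_inv_eq_one.1 h1)
  have h1e : r1.out * e * r1.out⁻¹ = l * e := by
    have h1 : r1.out * e * r1.out⁻¹ * e = l := congrArg (fun u : ↥P1 × ↥L => (u.2 : S)) hr1
    rw [eq_mul_inv_of_mul_eq h1, hE.inv_eq he]
  have h1l : r1.out * l * r1.out⁻¹ = l := by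
    have h1 : r1.out * l * r1.out⁻¹ * l = 1 := congrArg (fun u : ↥P1 × ↥L => (u.1 : S)) hr1
    rw [eq_mul_inv_of_mul_eq h1, one_mul, hE.inv_eq (hLE hl)]
  have h2e : r2.out * e * r2.out⁻¹ = e := by
    have h1 : r2.out * e * r2.out⁻¹ * e = 1 := congrArg (fun u : ↥P1 × ↥L => (u.2 : S)) hr2
    rw [eq_mul_inv_of_mul_eq h1, one_mul, hE.inv_eq he]
  have h2l : r2.out * l * r2.out⁻¹ = p * l := by
    have h1 : r2.out * l * r2.out⁻¹ * l = p := congrArg (fun u : ↥P1 × ↥L => (u.1 : S)) hr2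
    rw [eq_mul_inv_of_mul_eq h1, hE.inv_eq (hLE hl)]
  have hmk : (r1.out * r2.out)⁻¹ * (r2.out * r1.out) ∈ C := by
    refine QuotientGroup.eq.1 ?_
    rw [QuotientGroup.mk_mul, QuotientGroup.mk_mul, QuotientGroup.out_eq', QuotientGroup.out_eq', hcomm]
  have hfix := El.C_fix hmk he
  set g1 := r1.out
  set g2 := r2.out
  have e12 : g1 * g2 * e * (g1 * g2)⁻¹ = l * e := by
    rw [show g1 * g2 * e * (g1 * g2)⁻¹ = g1 * (g2 * e * g2⁻¹) * g1⁻¹ by group, h2e, h1e]
  have e21 : g2 * g1 * e * (g2 * g1)⁻¹ = p * l * e := by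
    rw [show g2 * g1 * e * (g2 * g1)⁻¹ = g2 * (g1 * e * g1⁻¹) * g2⁻¹ by group, h1e,
      show g2 * (l * e) * g2⁻¹ = g2 * l * g2⁻¹ * (g2 * e * g2⁻¹) by group, h2l, h2e]
  refine hp1 (mul_right_cancel (b := l * e) ?_)
  rw [one_mul, ← mul_assoc, ← e21, ← e12]
  conv_rhs => rw [← hfix]
  group

end

theorem card_double_cyclic [Finite S] {H W : Subgroup S} {r : S} (hH : H ≤ zpowers r)
    (hsq : ∀ y ∈ H, y * y ∈ W) (hinv : ∀ y z : S, y ∈ H → z ∈ H → y * y = 1 → z * z = 1 → y ≠ 1 → z ≠ 1 → y = z) :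
    Nat.card H ≤ 2 * Nat.card W := by
  have hc : ∀ y z : S, y ∈ H → z ∈ H → Commute y z := fun y z hy hz => by
    obtain ⟨i, rfl⟩ := mem_zpowers_iff.1 (hH hy)
    obtain ⟨j, rfl⟩ := mem_zpowers_iff.1 (hH hz)
    exact Commute.zpow_zpow (Commute.refl r) i j
  let s : ↥H →* ↥W := MonoidHom.mk' (fun y => ⟨y * y, hsq y y.2⟩) fun y z =>
    Subtype.ext ((hc z y z.2 y.2).mul_mul_mul_comm _ _)
  have h1 := s.ker.card_mul_index
  rw [index_ker] at h1
  have h2 : Nat.card s.ker ≤ 2 := by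
    by_contra hlt
    push Not at hlt
    have h3 : 2 < (s.ker : Set ↥H).ncard := by rw [← Nat.card_coe_set_eq]; exact hlt
    obtain ⟨b, c, d, hb, hcm, hd, hbc, hbd, hcd⟩ := (Set.two_lt_ncard_iff (Set.toFinite _)).1 h3
    have key : ∀ u v : ↥H, u ∈ s.ker → v ∈ s.ker → u ≠ 1 → v ≠ 1 → u = v := fun u v hu hv hu1 hv1 =>
      Subtype.ext (hinv u v u.2 v.2 (congrArg Subtype.val (MonoidHom.mem_ker.1 hu))
        (congrArg Subtype.val (MonoidHom.mem_ker.1 hv)) (fun e => hu1 (Subtype.ext e))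
        fun e => hv1 (Subtype.ext e))
    by_cases hb1 : b = 1
    · exact hcd (key c d hcm hd (fun e => hbc (hb1.trans e.symm)) fun e => hbd (hb1.trans e.symm))
    by_cases hc1 : c = 1
    · exact hbd (key b d hb hd hb1 fun e => hcd (hc1.trans e.symm))
    exact hbc (key b c hb hcm hb1 hc1)
  rw [← h1]
  exact Nat.mul_le_mul h2 (card_le_card_group _)

namespace ThreeX

variable (h : ThreeX E a e0 x)
include h

/-- the bound when `a` does not invert the centralizer modulo `E` -/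
theorem good_not_inv [Finite S] (hno : ¬ AllInv E a) {K N : Subgroup S} (hs : Sec K N) :
    Nat.card K ≤ 16 * Nat.card N := by
  haveI := h.th.el.normal
  haveI := h.th.el.C_normal
  haveI : Fact (Nat.Prime 2) := ⟨Nat.prime_two⟩
  set C := centralizer (E : Set S) with hC
  set π := QuotientGroup.mk' E with hπ
  have hQ : IsPGroup 2 (S ⧸ E) := h.th.two.to_quotient E
  set α := π a with hα
  set X := π x with hX
  have hX1 : X ≠ 1 := fun e => h.xE (mk_one_iff.1 e)
  have hX2 : X * X = 1 := by rw [hX, ← map_mul]; exact mk_one_iff.2 h.xx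
  have hα2 : α * α = 1 := by rw [hα, ← map_mul, h.th.a2, map_one]
  have hαnC : α ∉ C.map π := by
    rintro ⟨c, hc, e⟩
    refine h.th.aC ?_
    have h1 := mul_mem hc (h.th.el.le_centralizer (mk_eq_iff'.1 e))
    rwa [mul_inv_cancel_left] at h1
  -- the quotient has maximal class
  have hcent : Nat.card (centralizer ({α} : Set (S ⧸ E))) = 4 := by
    have hset : (centralizer ({α} : Set (S ⧸ E)) : Set (S ⧸ E)) = {1, X, α, X * α} := by
      ext y
      simp only [SetLike.mem_coe, mem_centralizer_singleton_iff, Set.mem_insert_iff, Set.mem_singleton_iff]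
      constructor
      · intro hy
        obtain ⟨y, rfl⟩ := QuotientGroup.mk'_surjective E y
        rcases h.all_mem hno y with hyC | hyC
        · rcases h.fix_quot (mem_map_of_mem _ hyC) hy with e | e
          · exact Or.inl e
          · exact Or.inr (Or.inl e)
        · have hy' : π (y * a) * α = α * π (y * a) := by
            rw [map_mul, ← hα, hy, mul_assoc, ← hy]
          rcases h.fix_quot (mem_map_of_mem _ hyC) hy' with e | e
          · refine Or.inr (Or.inr (Or.inl ?_))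
            rw [map_mul, ← hα] at e
            exact (mul_eq_one_iff_eq_inv.1 e).trans (inv_eq_of_mul_eq_one_right hα2)
          · refine Or.inr (Or.inr (Or.inr ?_))
            rw [map_mul, ← hα] at e
            rw [hX, ← e, mul_assoc, hα2, mul_one]
      · rintro (rfl | rfl | rfl | rfl)
        · group
        · exact (h.x_central α).symm
        · rfl
        · rw [mul_assoc, hα2, mul_one, ← mul_assoc, h.x_central α, mul_assoc, hα2, mul_one]
    rw [show Nat.card (centralizer ({α} : Set (S ⧸ E))) =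
      (centralizer ({α} : Set (S ⧸ E)) : Set (S ⧸ E)).ncard from Nat.card_coe_set_eq _, hset]
    have n1 : X ≠ α := fun e => hαnC (e ▸ mem_map_of_mem _ h.xC)
    have n2 : (1 : S ⧸ E) ≠ α := fun e => hαnC (e ▸ one_mem _)
    have n3 : (1 : S ⧸ E) ≠ X * α := fun e => n1 ((inv_eq_of_mul_eq_one_right hX2).symm.trans
      (inv_eq_of_mul_eq_one_right e.symm))
    have n4 : X ≠ X * α := fun e => n2 (mul_left_cancel ((mul_one X).trans e))
    have n5 : α ≠ X * α := fun e => hX1 (mul_right_cancel ((one_mul α).trans e)).symm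
    rw [Set.ncard_insert_of_notMem (by simp [Ne.symm hX1, n2, n3]) (Set.toFinite _),
      Set.ncard_insert_of_notMem (by simp [n1, n4]) (Set.toFinite _), Set.ncard_pair n5]
  rcases MaxClass.mc_of_centralizer hQ α hcent with h4 | hmc
  · -- the centralizer is then inverted
    exfalso
    refine hno fun c hc => ?_
    have htop : centralizer ({α} : Set (S ⧸ E)) = ⊤ := eq_top_of_card_eq _ (hcent.trans h4.symm)
    have hy : π c * α = α * π c := mem_centralizer_singleton_iff.1 (htop ▸ mem_top _)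
    rcases h.fix_quot (mem_map_of_mem _ hc) hy with e | e <;>
      rw [← mk_one_iff (E := E), map_mul, map_mul, map_mul, ← hπ, ← hα, mul_assoc α, hy, ← mul_assoc, hα2,
        one_mul, e]
    · exact one_mul 1
    · exact hX2
  obtain ⟨m, r, b, -, hm, hcardQ, hr, hidx, -⟩ := hmc.data
  have hXR : X ∈ zpowers r := by
    by_contra hXR
    have htop : centralizer ({α} : Set (S ⧸ E)) = ⊤ := by
      refine eq_top_iff.2 fun y _ => mem_centralizer_singleton_iff.2 ?_
      have hcr : ∀ u w : S ⧸ E, u ∈ zpowers r → w ∈ zpowers r → Commute u w := fun u w hu hw => by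
        obtain ⟨i, rfl⟩ := mem_zpowers_iff.1 hu
        obtain ⟨j, rfl⟩ := mem_zpowers_iff.1 hw
        exact Commute.zpow_zpow (Commute.refl r) i j
      have hc2 : ∀ u w : S ⧸ E, Commute u w := by
        intro u w
        have hx : ∀ u : S ⧸ E, ∃ u' ∈ zpowers r, u = u' ∨ u = X * u' := fun u => by
          by_cases hu : u ∈ zpowers r
          · exact ⟨u, hu, Or.inl rfl⟩
          · exact ⟨X * u, (mul_mem_iff_of_index_two hidx).2 (by simp [hXR, hu]),
              Or.inr (by rw [← mul_assoc, hX2, one_mul])⟩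
        have cX : ∀ w : S ⧸ E, Commute X w := fun w => (h.x_central w).symm
        obtain ⟨u', hu', rfl | rfl⟩ := hx u <;> obtain ⟨w', hw', rfl | rfl⟩ := hx w
        · exact hcr u w hu' hw'
        · exact (cX u).symm.mul_right (hcr u w' hu' hw')
        · exact (cX w).mul_left (hcr u' w hu' hw')
        · exact ((Commute.refl X).mul_right (cX w')).mul_left ((cX u').symm.mul_right (hcr u' w' hu' hw'))
      exact (hc2 y α).eq
    have : 2 ^ (2 + 1) ≤ 2 ^ (m + 1) := Nat.pow_le_pow_right (by norm_num) (by omega)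
    rw [← hcardQ, ← card_top, ← htop, hcent] at this
    omega
  have huniq : ∀ y z : S ⧸ E, y ∈ zpowers r → z ∈ zpowers r → y * y = 1 → z * z = 1 → y ≠ 1 → z ≠ 1 → y = z := by
    intro y z hy hz hy2 hz2 hy1 hz1
    by_contra hne
    classical
    haveI := Fintype.ofFinite ↥(zpowers r)
    have h1 := IsCyclic.card_pow_eq_one_le (α := ↥(zpowers r)) (n := 2) two_pos
    have h2 : ({1, ⟨y, hy⟩, ⟨z, hz⟩} : Finset ↥(zpowers r)) ⊆ Finset.univ.filter fun u => u ^ 2 = 1 := by
      intro u hu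
      simp only [Finset.mem_insert, Finset.mem_singleton] at hu
      simp only [Finset.mem_filter, Finset.mem_univ, true_and, pow_two]
      rcases hu with rfl | rfl | rfl
      · exact mul_one 1
      · exact Subtype.ext hy2
      · exact Subtype.ext hz2
    have h3 := (Finset.card_le_card h2).trans h1
    rw [Finset.card_insert_of_notMem (by simp [Subtype.ext_iff, Ne.symm hy1, Ne.symm hz1]),
      Finset.card_pair (by simp [Subtype.ext_iff, hne])] at h3
    omega
  -- the layers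
  set Y := (K ⊓ C).map π with hY
  set W := (N ⊓ C).map π with hW
  have hsqW : ∀ y ∈ Y, y * y ∈ W := by
    rintro _ ⟨k, hk, rfl⟩
    exact ⟨k * k, ⟨hs.sq k hk.1, mul_mem hk.2 hk.2⟩, map_mul _ _ _⟩
  have hR := card_double_cyclic (H := Y ⊓ zpowers r) (W := W) inf_le_right (fun y hy => hsqW y hy.1)
    fun y z hy hz => huniq y z hy.2 hz.2
  have hdouble : Nat.card Y ≤ 2 * Nat.card (Y ⊓ zpowers r : Subgroup (S ⧸ E)) :=
    MacWilliams.card_le_double fun u _ hu w _ hw => (mul_mem_iff_of_index_two hidx).2 (by simp [hu, hw])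
  have hKC : Nat.card (K.map (QuotientGroup.mk' C)) ≤ 2 := by
    rw [show Nat.card (K.map (QuotientGroup.mk' C)) =
      (K.map (QuotientGroup.mk' C) : Set (S ⧸ C)).ncard from Nat.card_coe_set_eq _]
    refine (Set.ncard_le_ncard (t := {1, QuotientGroup.mk' C a}) ?_ (Set.toFinite _)).trans
      ((Set.ncard_insert_le _ _).trans (by rw [Set.ncard_singleton]))
    rintro _ ⟨g, -, rfl⟩
    rcases h.all_mem hno g with hg | hg
    · exact Or.inl ((QuotientGroup.eq_one_iff g).2 hg)
    · refine Or.inr ((mul_eq_one_iff_eq_inv.1 ((map_mul _ g a).symm.trans ((QuotientGroup.eq_one_iff _).2 hg))).trans ?_)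
      rw [← map_inv, h.th.a_inv]
  have hNpos : 0 < Nat.card (N.map (QuotientGroup.mk' C)) := Nat.card_pos
  have hK1 : K ≤ C → Nat.card (K.map (QuotientGroup.mk' C)) = 1 := fun hle => by
    have : K.map (QuotientGroup.mk' C) = ⊥ := by
      rw [eq_bot_iff]
      rintro _ ⟨g, hg, rfl⟩
      exact (QuotientGroup.eq_one_iff g).2 (hle hg)
    rw [this, card_bot]
  have hKone : K ≤ C → Nat.card (K.map (QuotientGroup.mk' C)) ≤ 1 * Nat.card (N.map (QuotientGroup.mk' C)) :=
    fun hle => by rw [hK1 hle]; omega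
  have hKtwo : Nat.card (K.map (QuotientGroup.mk' C)) ≤ 2 * Nat.card (N.map (QuotientGroup.mk' C)) := by omega
  by_cases hYW : Nat.card Y ≤ 2 * Nat.card W
  · by_cases hKle : K ≤ C
    · exact card_le_of_layers h.th.el.le_centralizer (i := 1) (j := 2) (l := 8) (by norm_num)
        (hKone hKle) hYW (layer_eight h.th.card)
    · obtain ⟨k, hk, hkC⟩ := SetLike.not_le_iff_exists.1 hKle
      exact card_le_of_layers h.th.el.le_centralizer (i := 2) (j := 2) (l := 4) (by norm_num) hKtwo hYW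
        (layer_four h.th.two h.th.card (move h.th.el hs hk hkC))
  -- now the squares reach the central element
  have hYR : (Y ⊓ zpowers r : Subgroup (S ⧸ E)) ≠ ⊥ := fun e => by
    rw [e, card_bot] at hdouble
    have : 0 < Nat.card W := Nat.card_pos
    omega
  have hXY : X ∈ Y := by
    obtain ⟨y, hy, hy1⟩ := (Y ⊓ zpowers r).bot_or_exists_ne_one.resolve_left hYR
    obtain ⟨j, hj⟩ := (IsPGroup.iff_orderOf.1 hQ) y
    obtain ⟨i, rfl⟩ : ∃ i, j = i + 1 := ⟨j - 1, by
      rcases j with _ | j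
      · exact absurd (orderOf_eq_one_iff.1 (hj.trans (pow_zero 2))) hy1
      · omega⟩
    have h2 : y ^ 2 ^ i * y ^ 2 ^ i = 1 := by
      rw [← pow_add, ← two_mul, ← pow_succ', ← hj, pow_orderOf_eq_one]
    have h1 : y ^ 2 ^ i ≠ 1 := fun e => by
      have := Nat.le_of_dvd (by positivity) (orderOf_dvd_of_pow_eq_one e)
      rw [hj, pow_succ] at this
      have := Nat.two_pow_pos i
      omega
    have hmem := pow_mem hy (2 ^ i)
    exact huniq _ _ hmem.2 hXR h2 hX2 h1 hX1 ▸ hmem.1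
  obtain ⟨y, hy, hyX⟩ := hXY
  have hz : x * x ∈ N ⊓ E := by
    refine ⟨?_, h.xx⟩
    have he : y⁻¹ * x ∈ E := mk_eq_iff'.1 hyX
    have h1 : x * x = y * y := by
      calc x * x = y * (y⁻¹ * x) * (y * (y⁻¹ * x)) := by group
        _ = y * ((y⁻¹ * x) * y) * (y⁻¹ * x) := by group
        _ = y * y * ((y⁻¹ * x) * (y⁻¹ * x)) := by rw [← El.C_comm hy.2 he]; group
        _ = y * y := by rw [h.th.el.sq _ he, mul_one]
    rw [h1]
    exact hs.sq y hy.1
  have hj4 : Nat.card Y ≤ 4 * Nat.card W := by omega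
  by_cases hKle : K ≤ C
  · exact card_le_of_layers h.th.el.le_centralizer (i := 1) (j := 4) (l := 4) (by norm_num)
      (hKone hKle) hj4 (layer_four h.th.two h.th.card (Or.inr ⟨_, hz, h.z1⟩))
  · obtain ⟨k, hk, hkC⟩ := SetLike.not_le_iff_exists.1 hKle
    refine card_le_of_layers h.th.el.le_centralizer (i := 2) (j := 4) (l := 2) (by norm_num) hKtwo hj4
      (layer_two h.th.two h.th.card hz h.z1 ?_)
    by_cases hX : E ≤ K
    · refine Or.inr ⟨q a e0, ?_, h.v1, Ne.symm (h.z_ne hno)⟩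
      have hka : k * a ∈ C := (h.all_mem hno k).resolve_left hkC
      have h2 := hs.disp h.th.el hk (hX h.e0E) h.e0E
      have he : a⁻¹ * e0 * a ∈ E := by simpa using h.th.el.normal.conj_mem e0 h.e0E a⁻¹
      rwa [show k * e0 * k⁻¹ * e0 = k * a * (a⁻¹ * e0 * a) * (k * a)⁻¹ * e0 by group, El.C_fix hka he,
        show a⁻¹ * e0 * a * e0 = a * e0 * a⁻¹ * e0 by rw [h.th.a_inv], ← h.th.q_self h.e0E] at h2
    · exact Or.inl hX

end ThreeX

end Cfsg.Agent.SelfCentEight
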