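import Cfsg.Agent.SelfCentEight.Three
import Cfsg.Agent.MacWilliams.Main

/-!
The case in which the involution does not invert the centralizer modulo `E`: then the whole group is the
centralizer extended by the involution, and modulo `E` it has maximal class.
-/

set_option autoImplicit false
set_option linter.style.haveILetI false
set_option linter.unusedSectionVars false
set_option maxHeartbeats 400000

namespace Cfsg.Agent.SelfCentEight

open Subgroup

section Abstract

variable {Q : Type*} [Group Q]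

/-- an element inverted by an involution with two fixed points is a commutator with it, unless it inverts all -/
theorem sigma [Finite Q] {D : Subgroup Q} (hD : ∀ g : Q, ∀ c ∈ D, g * c * g⁻¹ ∈ D) {α x d : Q}
    (hα : α * α = 1) (hd : d ∈ D) (hαd : α * d * α = d⁻¹)
    (hfix : ∀ c ∈ D, c * α = α * c → c = 1 ∨ c = x)
    (hfix' : ∀ c ∈ D, c * (d * α) = d * α * c → c = 1 ∨ c = x)
    (hno : ∃ c ∈ D, α * c * α ≠ c⁻¹) : ∃ u ∈ D, d = u⁻¹ * α * u * α := by
  classical
  haveI := Fintype.ofFinite Q
  by_contra hnot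
  push Not at hnot
  have hαi : α⁻¹ = α := inv_eq_of_mul_eq_one_right hα
  set U := Finset.univ.filter (· ∈ D) with hU
  set I := U.filter (fun c => α * c * α = c⁻¹) with hI
  set f1 : Q → Q := fun u => u⁻¹ * α * u * α with hf1
  set f2 : Q → Q := fun u => u⁻¹ * (d * α) * u * α with hf2
  have hconjD : ∀ u ∈ D, α * u * α ∈ D := fun u hu => by
    have := hD α u hu
    rwa [hαi] at this
  have h1 : U.image f1 ⊆ I := by
    intro c hc
    obtain ⟨u, hu, rfl⟩ := Finset.mem_image.1 hc
    simp only [hU, Finset.mem_filter, Finset.mem_univ, true_and] at hu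
    simp only [hI, hU, hf1, Finset.mem_filter, Finset.mem_univ, true_and]
    refine ⟨?_, ?_⟩
    · rw [show u⁻¹ * α * u * α = u⁻¹ * (α * u * α) by group]
      exact mul_mem (inv_mem hu) (hconjD u hu)
    · rw [show α * (u⁻¹ * α * u * α) * α = α * u⁻¹ * α * u * (α * α) by group, hα, mul_one, mul_inv_rev,
        mul_inv_rev, mul_inv_rev, inv_inv, hαi]
      group
  have h2 : U.image f2 ⊆ I := by
    intro c hc
    obtain ⟨u, hu, rfl⟩ := Finset.mem_image.1 hc
    simp only [hU, Finset.mem_filter, Finset.mem_univ, true_and] at hu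
    simp only [hI, hU, hf2, Finset.mem_filter, Finset.mem_univ, true_and]
    refine ⟨?_, ?_⟩
    · rw [show u⁻¹ * (d * α) * u * α = u⁻¹ * d * (α * u * α) by group]
      exact mul_mem (mul_mem (inv_mem hu) hd) (hconjD u hu)
    · calc α * (u⁻¹ * (d * α) * u * α) * α = α * u⁻¹ * (d * α) * u * (α * α) := by group
        _ = α * u⁻¹ * α * (α * d * α) * u * (α * α) := by
          rw [show α * u⁻¹ * α * (α * d * α) * u = α * u⁻¹ * (α * α) * (d * α) * u by group]
          simp only [hα, mul_one]
        _ = (u⁻¹ * (d * α) * u * α)⁻¹ := by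
          rw [hαd, hα, mul_one, mul_inv_rev, mul_inv_rev, mul_inv_rev, mul_inv_rev, inv_inv, hαi]
          group
  have hdis : Disjoint (U.image f1) (U.image f2) := by
    rw [Finset.disjoint_left]
    intro c hc hc'
    obtain ⟨s, hs, rfl⟩ := Finset.mem_image.1 hc
    obtain ⟨u, hu, e⟩ := Finset.mem_image.1 hc'
    simp only [hU, Finset.mem_filter, Finset.mem_univ, true_and] at hs hu
    refine hnot (s * u⁻¹) (mul_mem hs (inv_mem hu)) ?_
    simp only [hf1, hf2] at e
    calc d = u * (u⁻¹ * (d * α) * u * α) * α⁻¹ * u⁻¹ * α⁻¹ := by group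
      _ = u * (s⁻¹ * α * s * α) * α⁻¹ * u⁻¹ * α⁻¹ := by rw [e]
      _ = (s * u⁻¹)⁻¹ * α * (s * u⁻¹) * α⁻¹ := by group
      _ = _ := by rw [hαi]
  have hcard : ∀ β : Q, (∀ c ∈ D, c * β = β * c → c = 1 ∨ c = x) →
      U.card ≤ 2 * (U.image fun u => u⁻¹ * β * u * α).card := by
    intro β hβ
    refine Finset.card_le_mul_card_image U 2 ?_
    intro c hc
    obtain ⟨u0, hu0, rfl⟩ := Finset.mem_image.1 hc
    refine (Finset.card_le_card (t := {u0, x * u0}) fun u hu => ?_).trans Finset.card_le_two
    simp only [Finset.mem_filter, hU, Finset.mem_univ, true_and] at hu hu0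
    obtain ⟨huD, e⟩ := hu
    have e' := mul_right_cancel e
    rcases hβ (u * u0⁻¹) (mul_mem huD (inv_mem hu0)) (by
      calc u * u0⁻¹ * β = u * (u0⁻¹ * β * u0) * u0⁻¹ := by group
        _ = u * (u⁻¹ * β * u) * u0⁻¹ := by rw [e']
        _ = β * (u * u0⁻¹) := by group) with e2 | e2
    · rw [mul_inv_eq_one] at e2
      simp [e2]
    · simp [mul_inv_eq_iff_eq_mul.1 e2]
  have hIU : I = U := by
    refine Finset.eq_of_subset_of_card_le (Finset.filter_subset _ _) ?_
    have h3 := Finset.card_le_card (Finset.union_subset h1 h2)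
    rw [Finset.card_union_of_disjoint hdis] at h3
    have h4 := hcard α hfix
    have h5 := hcard (d * α) hfix'
    simp only [hf1, hf2] at h3
    omega
  obtain ⟨c, hc, hne⟩ := hno
  have : c ∈ I := by rw [hIU]; simp [hU, hc]
  exact hne (Finset.mem_filter.1 this).2

end Abstract

variable {S : Type*} [Group S] {E : Subgroup S} {a e0 x : S}

/-- `a` inverts the centralizer modulo `E` -/
def AllInv (E : Subgroup S) (a : S) : Prop := ∀ c ∈ centralizer (E : Set S), a * c * a * c ∈ E

theorem mk_eq_iff' [E.Normal] {c d : S} :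
    (QuotientGroup.mk' E) c = QuotientGroup.mk' E d ↔ c⁻¹ * d ∈ E := QuotientGroup.eq

theorem mk_one_iff [E.Normal] {c : S} : QuotientGroup.mk' E c = 1 ↔ c ∈ E := QuotientGroup.eq_one_iff c

namespace ThreeX

section

variable (h : ThreeX E a e0 x)
include h

theorem fix_quot [Finite S] [E.Normal] {c : S ⧸ E} (hc : c ∈ (centralizer (E : Set S)).map (QuotientGroup.mk' E))
    (e : c * QuotientGroup.mk' E a = QuotientGroup.mk' E a * c) : c = 1 ∨ c = QuotientGroup.mk' E x := by
  obtain ⟨c, hcC, rfl⟩ := hc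
  have hqc : q a c ∈ E := by
    rw [← mk_one_iff (E := E)]
    simp only [q, map_mul, map_inv]
    rw [mul_assoc _ (QuotientGroup.mk' E a), ← e, inv_mul_cancel_left, ← map_mul, h.th.a2, map_one]
  rcases h.fix_two hcC hqc with e' | e'
  · exact Or.inl (mk_one_iff.2 e')
  · exact Or.inr (mk_eq_iff'.2 e').symm

theorem x_central [E.Normal] (g : S ⧸ E) : g * QuotientGroup.mk' E x = QuotientGroup.mk' E x * g := by
  obtain ⟨g, rfl⟩ := QuotientGroup.mk'_surjective E g
  have h1 := mk_one_iff (E := E).2 (h.xcomm g)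
  simp only [map_mul, map_inv] at h1
  exact mul_inv_eq_iff_eq_mul.1 (mul_inv_eq_one.1 h1)

theorem exists_sigma [Finite S] [E.Normal] (hno : ¬ AllInv E a) {d : S}
    (hd : d ∈ centralizer (E : Set S)) (had : a * d * a * d ∈ E)
    (hfix' : ∀ c ∈ (centralizer (E : Set S)).map (QuotientGroup.mk' E),
      c * QuotientGroup.mk' E (d * a) = QuotientGroup.mk' E (d * a) * c → c = 1 ∨ c = QuotientGroup.mk' E x) :
    ∃ u ∈ centralizer (E : Set S), ∃ e ∈ E, d = e * q a u := by
  haveI := h.th.el.C_normal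
  have hn := (‹(centralizer (E : Set S)).Normal›).map (QuotientGroup.mk' E) (QuotientGroup.mk'_surjective E)
  obtain ⟨u, ⟨u, hu, rfl⟩, hdu⟩ := sigma (D := (centralizer (E : Set S)).map (QuotientGroup.mk' E))
    (fun g c hc => hn.conj_mem c hc g) (α := QuotientGroup.mk' E a) (d := QuotientGroup.mk' E d)
    (x := QuotientGroup.mk' E x) (by rw [← map_mul, h.th.a2, map_one]) (mem_map_of_mem _ hd)
    (by rw [← map_mul, ← map_mul]; exact mul_eq_one_iff_eq_inv.1 ((map_mul _ _ _).symm.trans (mk_one_iff.2 had)))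
    (fun c hc => h.fix_quot hc) (by rw [← map_mul]; exact hfix') (by
      simp only [AllInv, not_forall] at hno
      obtain ⟨c, hc, hne⟩ := hno
      refine ⟨_, mem_map_of_mem _ hc, fun e => hne ?_⟩
      rw [← mk_one_iff (E := E)]
      simp only [map_mul]
      rw [e, inv_mul_cancel])
  refine ⟨u, hu, d * (q a u)⁻¹, ?_, by group⟩
  rw [← mk_one_iff (E := E)]
  simp only [q, map_mul, map_inv]
  rw [hdu]
  group

theorem z_ne [Finite S] (hno : ¬ AllInv E a) : x * x ≠ q a e0 := by
  haveI := h.th.el.normal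
  have hxq : a * x * a * x ∈ E := by
    have h1 := mul_mem (h.xcomm a) h.xx
    rwa [h.th.a_inv, show a * x * a * x⁻¹ * (x * x) = a * x * a * x by group] at h1
  obtain ⟨u, hu, e, he, hxu⟩ := h.exists_sigma hno h.xC hxq (fun c hc hcomm => h.fix_quot hc (by
    rw [map_mul] at hcomm
    have h2 := h.x_central c
    calc c * QuotientGroup.mk' E a = (QuotientGroup.mk' E x)⁻¹ * (c * (QuotientGroup.mk' E x * QuotientGroup.mk' E a)) := by
          rw [← mul_assoc c, h2]; group
      _ = (QuotientGroup.mk' E x)⁻¹ * (QuotientGroup.mk' E x * QuotientGroup.mk' E a * c) := by rw [hcomm]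
      _ = _ := by group))
  set m := q a u with hm
  have hme : m = e * x := by rw [hxu, ← mul_assoc, h.th.el.sq e he, one_mul]
  have hinv : a * m * a = m⁻¹ := by
    simp only [hm, q]
    rw [show a * (u⁻¹ * a * u * a) * a = a * u⁻¹ * a * u * (a * a) by group, h.th.a2, mul_one, mul_inv_rev,
      mul_inv_rev, mul_inv_rev, inv_inv, h.th.a_inv]
    group
  have hqm : q a m = (x * x)⁻¹ := by
    calc q a m = m⁻¹ * (a * m * a) := by simp only [q]; group
      _ = (m * m)⁻¹ := by rw [hinv]; group
      _ = (x * x)⁻¹ := by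
        rw [hme, show e * x * (e * x) = e * (x * e) * x by group, El.C_comm h.xC he, ← mul_assoc e e x,
          h.th.el.sq e he, one_mul]
  rw [hme, h.th.q_mul (h.th.q_mem he) h.xC, h.th.el.inv_eq h.xx] at hqm
  intro hz
  rw [hz] at hqm
  rcases h.qE e he with e1 | e1
  · rw [e1, one_mul] at hqm
    exact h.w_ne.2 hqm
  · rw [e1] at hqm
    exact h.w_ne.1 (mul_left_cancel (hqm.trans (mul_one _).symm))

/-- the group is the centralizer extended by the involution -/
theorem all_mem [Finite S] (hno : ¬ AllInv E a) (g : S) :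
    g ∈ centralizer (E : Set S) ∨ g * a ∈ centralizer (E : Set S) := by
  haveI := h.th.el.normal
  haveI : Fact (Nat.Prime 2) := ⟨Nat.prime_two⟩
  set C := centralizer (E : Set S) with hC
  have hn := h.th.el.C_normal
  have hconj : ∀ c ∈ C, a * c * a ∈ C := fun c hc => by
    have := hn.conj_mem c hc a
    rwa [h.th.a_inv] at this
  let R : Subgroup S :=
    { carrier := {y | y ∈ C ∨ y * a ∈ C}
      one_mem' := Or.inl C.one_mem
      mul_mem' := by
        rintro y z (hy | hy) (hz | hz)
        · exact Or.inl (mul_mem hy hz)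
        · exact Or.inr (by rw [mul_assoc]; exact mul_mem hy hz)
        · refine Or.inr ?_
          have h1 := mul_mem hy (hconj z hz)
          rwa [show y * a * (a * z * a) = y * (a * a) * z * a by group, h.th.a2, mul_one] at h1
        · refine Or.inl ?_
          have h1 := mul_mem hy (hconj _ hz)
          rwa [show y * a * (a * (z * a) * a) = y * (a * a) * z * (a * a) by group, h.th.a2, mul_one,
            mul_one] at h1
      inv_mem' := by
        rintro y (hy | hy)
        · exact Or.inl (inv_mem hy)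
        · refine Or.inr ?_
          have h1 := hconj _ (inv_mem hy)
          rwa [mul_inv_rev, h.th.a_inv, show a * (a * y⁻¹) * a = a * a * (y⁻¹ * a) by group, h.th.a2,
            one_mul] at h1 }
  suffices htop : R = ⊤ by
    have : g ∈ R := by rw [htop]; exact mem_top g
    exact this
  by_contra hlt
  haveI := h.th.two.isNilpotent
  obtain ⟨y, hy, hyR⟩ := SetLike.not_le_iff_exists.1
    (fun hle => (Group.normalizerCondition_of_isNilpotent (G := S) R (lt_top_iff_ne_top.2 hlt)).not_ge hle)
  have haR : a ∈ R := Or.inr (by rw [h.th.a2]; exact C.one_mem)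
  have hd : y * a * y⁻¹ * a ∈ C := by
    rcases (mem_normalizer_iff.1 hy a).1 haR with h1 | h1
    · exfalso
      refine h.th.aC ?_
      have := hn.conj_mem _ h1 y⁻¹
      rwa [show y⁻¹ * (y * a * y⁻¹) * y⁻¹⁻¹ = a by group] at this
    · exact h1
  set d := y * a * y⁻¹ * a with hdef
  have hinv : a * d * a * d = 1 := by
    rw [hdef, show a * (y * a * y⁻¹ * a) * a * (y * a * y⁻¹ * a) = a * y * a * y⁻¹ * (a * a) * (y * a * y⁻¹) * a
      by group, h.th.a2, mul_one, show a * y * a * y⁻¹ * (y * a * y⁻¹) * a = a * y * (a * a) * y⁻¹ * a by group,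
      h.th.a2, mul_one, mul_inv_cancel_right, h.th.a2]
  have hda : d * a = y * a * y⁻¹ := by
    rw [hdef, mul_assoc _ a a, h.th.a2, mul_one]
  obtain ⟨u, hu, e, he, hdu⟩ := h.exists_sigma hno hd (by rw [hinv]; exact E.one_mem) (fun c hc hcomm => by
    haveI := hn
    have hcn := (‹C.Normal›).map (QuotientGroup.mk' E) (QuotientGroup.mk'_surjective E)
    set Y := QuotientGroup.mk' E y with hY
    have hcomm' : Y⁻¹ * c * Y * QuotientGroup.mk' E a = QuotientGroup.mk' E a * (Y⁻¹ * c * Y) := by
      rw [hda, map_mul, map_mul, map_inv, ← hY] at hcomm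
      calc Y⁻¹ * c * Y * QuotientGroup.mk' E a = Y⁻¹ * (c * (Y * QuotientGroup.mk' E a * Y⁻¹)) * Y := by group
        _ = Y⁻¹ * (Y * QuotientGroup.mk' E a * Y⁻¹ * c) * Y := by rw [hcomm]
        _ = _ := by group
    have hc' : Y⁻¹ * c * Y ∈ C.map (QuotientGroup.mk' E) := by
      have := hcn.conj_mem c hc Y⁻¹
      rwa [inv_inv] at this
    rcases h.fix_quot hc' hcomm' with e1 | e1
    · left
      calc c = Y * (Y⁻¹ * c * Y) * Y⁻¹ := by group
        _ = 1 := by rw [e1]; group
    · right
      calc c = Y * (Y⁻¹ * c * Y) * Y⁻¹ := by group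
        _ = QuotientGroup.mk' E x := by rw [e1, h.x_central Y, mul_inv_cancel_right])
  obtain ⟨k, hk, hky⟩ := h.adjust (y := y) he hu hdu
  -- `y` fixes the four fixed elements
  have hv : y * q a e0 * y⁻¹ = q a e0 := by
    have he' : y * e0 * y⁻¹ ∈ E := h.th.el.normal.conj_mem e0 h.e0E y
    have e1 : y * q a e0 * y⁻¹ = q a (y * e0 * y⁻¹) := by
      rw [h.th.q_self h.e0E, h.th.q_self he', show y * (a * e0 * a⁻¹ * e0) * y⁻¹ =
        y * a * y⁻¹ * (y * e0 * y⁻¹) * (y * a * y⁻¹)⁻¹ * (y * e0 * y⁻¹) by group, ← hda,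
        show d * a * (y * e0 * y⁻¹) * (d * a)⁻¹ = d * (a * (y * e0 * y⁻¹) * a⁻¹) * d⁻¹ by group,
        El.C_fix hd (h.th.el.normal.conj_mem _ he' a)]
    rcases h.qE _ he' with e2 | e2
    · exfalso
      refine h.v1 ?_
      rw [e2] at e1
      calc q a e0 = y⁻¹ * (y * q a e0 * y⁻¹) * y := by group
        _ = 1 := by rw [e1]; group
    · exact e1.trans e2
  have hz := h.zc y
  rcases h.th.hT (k * y) hky (fun f hf hfa => by
    have hyf : y * f * y⁻¹ = f := by
      rcases h.th.fixed_cases h.v_mem h.v_fix h.xx (h.zc a) h.v1 h.z1 (Ne.symm (h.z_ne hno)) hf hfa with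
        rfl | rfl | rfl | rfl
      · group
      · exact hv
      · rw [hz, mul_inv_cancel_right]
      · rw [show y * (q a e0 * (x * x)) * y⁻¹ = y * q a e0 * y⁻¹ * (y * (x * x) * y⁻¹) by group, hv, hz,
          mul_inv_cancel_right]
    calc k * y * f = k * (y * f * y⁻¹) * y := by group
      _ = f * (k * y) := by rw [hyf, El.C_comm hk hf, mul_assoc]) with h1 | h1
  · refine hyR (Or.inl ?_)
    simpa using mul_mem (inv_mem hk) h1
  · refine hyR (Or.inr ?_)
    have := mul_mem (inv_mem hk) h1
    rwa [show k⁻¹ * (k * y * a) = y * a by group] at this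

end

end ThreeX

end Cfsg.Agent.SelfCentEight
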