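import Cfsg.Agent.SelfCentEight.Basic

/-!
A maximal normal elementary abelian subgroup `E` of order eight with an involution `a` fixing only four elements
of its centralizer: the general facts, and the case in which `a` does not invert the centralizer modulo `E`.
-/

set_option autoImplicit false
set_option linter.style.haveILetI false
set_option linter.unusedSectionVars false
set_option maxHeartbeats 400000

namespace Cfsg.Agent.SelfCentEight

open Subgroup

variable {S : Type*} [Group S]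

/-- the standing hypotheses -/
structure Three (E : Subgroup S) (a : S) : Prop where
  two : IsPGroup 2 S
  el : El E
  card : Nat.card E = 8
  a2 : a * a = 1
  aC : a ∉ centralizer (E : Set S)
  fix4 : Nat.card (E ⊓ centralizer ({a} : Set S) : Subgroup S) = 4
  hfix : ∀ c ∈ centralizer (E : Set S), a * c = c * a → c ∈ E
  hT : ∀ y : S, y * a = a * y → (∀ e ∈ E, a * e = e * a → y * e = e * y) →
    y ∈ centralizer (E : Set S) ∨ y * a ∈ centralizer (E : Set S)
  max : ∀ x ∈ centralizer (E : Set S), x * x = 1 → (∀ g : S, g * x * g⁻¹ * x⁻¹ ∈ E) → x ∈ E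

/-- the displacement of `a` by `u` -/
def q (a u : S) : S := u⁻¹ * a * u * a

namespace Three

variable {E : Subgroup S} {a : S}

section

variable (h : Three E a)
include h

theorem a_inv : a⁻¹ = a := inv_eq_of_mul_eq_one_right h.a2

theorem q_self {e : S} (he : e ∈ E) : q a e = a * e * a⁻¹ * e := by
  have h1 : Commute e (a * e * a⁻¹) := h.el.comm he (h.el.normal.conj_mem e he a)
  rw [q, h.el.inv_eq he, h.a_inv]
  calc e * a * e * a = e * (a * e * a⁻¹) := by rw [h.a_inv]; group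
    _ = a * e * a⁻¹ * e := h1.eq
    _ = a * e * a * e := by rw [h.a_inv]

theorem q_mem {e : S} (he : e ∈ E) : q a e ∈ E := by
  rw [h.q_self he]
  exact mul_mem (h.el.normal.conj_mem e he a) he

theorem q_fixed {u : S} (hu : q a u ∈ E) : a * q a u = q a u * a := by
  have h1 : a * q a u * a⁻¹ = (q a u)⁻¹ := by
    simp only [q, h.a_inv]
    rw [show a * (u⁻¹ * a * u * a) * a = a * u⁻¹ * a * u * (a * a) by group, h.a2, mul_one]
    rw [mul_inv_rev, mul_inv_rev, mul_inv_rev, inv_inv, h.a_inv]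
    group
  rw [h.el.inv_eq hu] at h1
  exact mul_inv_eq_iff_eq_mul.1 h1

theorem q_mul {c u : S} (hc : q a c ∈ E) (hu : u ∈ centralizer (E : Set S)) :
    q a (c * u) = q a c * q a u := by
  have h1 : q a (c * u) = u⁻¹ * q a c * (a⁻¹ * u * a) := by simp only [q]; group
  rw [h1, El.C_comm (inv_mem hu) hc, h.a_inv]
  simp only [q]
  group

theorem q_one : q a (1 : S) = 1 := by
  simp only [q, inv_one, one_mul, mul_one, h.a2]

theorem exists_v [Finite S] : ∃ e0 ∈ E, q a e0 ≠ 1 ∧ ∀ e ∈ E, q a e = 1 ∨ q a e = q a e0 := by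
  have hr : Nat.card (h.el.dE a).range = 2 := by
    have h1 := h.el.dE_card a
    rw [h.fix4, h.card] at h1
    omega
  obtain ⟨z, hz⟩ := Nat.card_eq_two_iff' (1 : (h.el.dE a).range) |>.1 hr
  obtain ⟨⟨v, hv⟩, hv1, huniq⟩ : ∃ z : (h.el.dE a).range, z ≠ 1 ∧ ∀ y, y ≠ 1 → y = z := ⟨z, hz.1, hz.2⟩
  obtain ⟨e0, he0⟩ := hv
  refine ⟨e0, e0.2, fun hq => hv1 (Subtype.ext (Subtype.ext ?_)), fun e he => ?_⟩
  · exact (congrArg Subtype.val he0).symm.trans ((h.q_self e0.2).symm.trans hq)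
  by_cases hq : q a e = 1
  · exact Or.inl hq
  refine Or.inr ?_
  have hne : (⟨h.el.dE a ⟨e, he⟩, ⟨_, rfl⟩⟩ : (h.el.dE a).range) ≠ 1 := fun hh =>
    hq ((h.q_self he).trans (congrArg (fun y : (h.el.dE a).range => ((y : ↥E) : S)) hh))
  have h2 := congrArg (fun y : (h.el.dE a).range => ((y : ↥E) : S)) (huniq _ hne)
  rw [h.q_self he, h.q_self e0.2]
  exact h2.trans (congrArg Subtype.val he0.symm)

theorem fixed_cases [Finite S] {s t : S} (hs : s ∈ E) (hsa : a * s = s * a) (ht : t ∈ E) (hta : a * t = t * a)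
    (hs1 : s ≠ 1) (ht1 : t ≠ 1) (hst : s ≠ t) {e : S} (he : e ∈ E) (hea : a * e = e * a) :
    e = 1 ∨ e = s ∨ e = t ∨ e = s * t := by
  refine eq_of_card_four h.fix4 ⟨hs, mem_centralizer_singleton_iff.2 hsa.symm⟩
    ⟨ht, mem_centralizer_singleton_iff.2 hta.symm⟩ hs1 ht1 hst (fun hh => hst ?_)
    ⟨he, mem_centralizer_singleton_iff.2 hea.symm⟩
  exact (mul_eq_one_iff_eq_inv.1 hh).trans (h.el.inv_eq ht)

/-- an element of the centralizer displaced trivially or as by an element of `E` lies in `E` -/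
theorem fix_mod {c e0 : S} (he0 : e0 ∈ E) (hc : c ∈ centralizer (E : Set S))
    (hq : q a c = 1 ∨ q a c = q a e0) : c ∈ E := by
  have key : ∀ d ∈ centralizer (E : Set S), q a d = 1 → d ∈ E := fun d hd hq1 => by
    refine h.hfix d hd ?_
    calc a * d = d * q a d * a⁻¹ := by simp only [q]; group
      _ = d * a := by rw [hq1, mul_one, h.a_inv]
  rcases hq with hq | hq
  · exact key c hc hq
  · have hcE : q a c ∈ E := by rw [hq]; exact h.q_mem he0
    have h1 := key (c * e0) (mul_mem hc (h.el.le_centralizer he0)) (by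
      rw [h.q_mul hcE (h.el.le_centralizer he0), hq, h.el.sq _ (h.q_mem he0)])
    simpa using mul_mem h1 (inv_mem he0)

/-- a central involution of the centralizer modulo `E` -/
theorem socle [Finite S] (hCE : ¬ centralizer (E : Set S) ≤ E) :
    ∃ x ∈ centralizer (E : Set S), x ∉ E ∧ (∀ g : S, g * x * g⁻¹ * x⁻¹ ∈ E) ∧ q a x ∈ E ∧ x * x ∈ E ∧
      x * x ≠ 1 ∧ ∀ g : S, g * (x * x) = x * x * g := by
  haveI := h.el.normal
  haveI := h.el.C_normal
  haveI : Fact (Nat.Prime 2) := ⟨Nat.prime_two⟩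
  obtain ⟨L, hLn, hEL, hLC, hLcard, hLcomm⟩ :=
    Fusion.exists_normal_card_succ h.two E _ (lt_of_le_not_ge h.el.le_centralizer hCE)
  obtain ⟨x, hxL, hxE⟩ := SetLike.not_le_iff_exists.1 (fun hle : L ≤ E => by
    have := card_le_of_le hle
    rw [hLcard, h.card] at this
    omega)
  have hxC := hLC hxL
  have hcomm : ∀ g : S, g * x * g⁻¹ * x⁻¹ ∈ E := fun g => by
    have h1 := inv_mem (hLcomm (commutator_mem_commutator hxL (mem_top g)))
    rwa [commutatorElement_inv, commutatorElement_def] at h1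
  have hxx : x * x ∈ E := by
    have hidx : (E.subgroupOf L).index = 2 := by
      have h1 := (E.subgroupOf L).card_mul_index
      rw [Nat.card_congr (subgroupOfEquivOfLe hEL).toEquiv, hLcard, mul_comm 2] at h1
      exact Nat.eq_of_mul_eq_mul_left Nat.card_pos h1
    simpa [mem_subgroupOf] using mul_self_mem_of_index_two hidx ⟨x, hxL⟩
  refine ⟨x, hxC, hxE, hcomm, ?_, hxx, fun h1 => hxE (h.max x hxC h1 hcomm), fun g => ?_⟩
  · have h2 := h.el.normal.conj_mem _ (hcomm a) x⁻¹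
    convert h2 using 1
    simp only [q, h.a_inv]
    group
  · obtain ⟨e, he, hge⟩ : ∃ e ∈ E, g * x * g⁻¹ = e * x := ⟨_, hcomm g, by group⟩
    have h3 : g * (x * x) * g⁻¹ = x * x := by
      rw [show g * (x * x) * g⁻¹ = g * x * g⁻¹ * (g * x * g⁻¹) by group, hge,
        show e * x * (e * x) = e * (x * e) * x by group, El.C_comm hxC he, ← mul_assoc e e x, h.el.sq e he,
        one_mul]
    exact mul_inv_eq_iff_eq_mul.1 h3

end

end Three

/-- the standing hypotheses with a central involution modulo `E` chosen -/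
structure ThreeX (E : Subgroup S) (a e0 x : S) : Prop where
  th : Three E a
  e0E : e0 ∈ E
  v1 : q a e0 ≠ 1
  qE : ∀ e ∈ E, q a e = 1 ∨ q a e = q a e0
  xC : x ∈ centralizer (E : Set S)
  xE : x ∉ E
  xcomm : ∀ g : S, g * x * g⁻¹ * x⁻¹ ∈ E
  qx : q a x ∈ E
  xx : x * x ∈ E
  z1 : x * x ≠ 1
  zc : ∀ g : S, g * (x * x) = x * x * g

namespace ThreeX

variable {E : Subgroup S} {a e0 x : S}

section

variable (h : ThreeX E a e0 x)
include h

theorem v_mem : q a e0 ∈ E := h.th.q_mem h.e0E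

theorem v_fix : a * q a e0 = q a e0 * a := h.th.q_fixed h.v_mem

theorem w_ne : q a x ≠ 1 ∧ q a x ≠ q a e0 :=
  ⟨fun hh => h.xE (h.th.fix_mod h.e0E h.xC (Or.inl hh)), fun hh => h.xE (h.th.fix_mod h.e0E h.xC (Or.inr hh))⟩

theorem realise [Finite S] {e : S} (he : e ∈ E) (hea : a * e = e * a) :
    ∃ k ∈ centralizer (E : Set S), q a k = e := by
  have he0C := h.th.el.le_centralizer h.e0E
  rcases h.th.fixed_cases h.v_mem h.v_fix h.qx (h.th.q_fixed h.qx) h.v1 h.w_ne.1 (Ne.symm h.w_ne.2) he hea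
    with rfl | rfl | rfl | rfl
  · exact ⟨1, one_mem _, h.th.q_one⟩
  · exact ⟨e0, he0C, rfl⟩
  · exact ⟨x, h.xC, rfl⟩
  · exact ⟨e0 * x, mul_mem he0C h.xC, h.th.q_mul h.v_mem h.xC⟩

/-- an element moving `a` to a conjugate under the centralizer can be corrected -/
theorem adjust [Finite S] {y e u : S} (he : e ∈ E) (hu : u ∈ centralizer (E : Set S))
    (hy : y * a * y⁻¹ * a = e * q a u) :
    ∃ k ∈ centralizer (E : Set S), k * y * a = a * (k * y) := by
  have hA : y * a * y⁻¹ = e * (u⁻¹ * a * u) := by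
    calc y * a * y⁻¹ = y * a * y⁻¹ * a * a⁻¹ := by group
      _ = e * (u⁻¹ * a * u) := by rw [hy]; simp only [q]; group
  have h2 : e * (u⁻¹ * a * u) * (e * (u⁻¹ * a * u)) = 1 := by
    rw [← hA, show y * a * y⁻¹ * (y * a * y⁻¹) = y * (a * a) * y⁻¹ by group, h.th.a2, mul_one, mul_inv_cancel]
  have hA2 : u⁻¹ * a * u * (u⁻¹ * a * u) = 1 := by
    rw [show u⁻¹ * a * u * (u⁻¹ * a * u) = u⁻¹ * (a * a) * u by group, h.th.a2, mul_one, inv_mul_cancel]
  have hea : a * e = e * a := by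
    have h3 : u⁻¹ * a * u * e * (u⁻¹ * a * u)⁻¹ = e := by
      calc u⁻¹ * a * u * e * (u⁻¹ * a * u)⁻¹ = u⁻¹ * a * u * e * (u⁻¹ * a * u) := by
            rw [inv_eq_of_mul_eq_one_right hA2]
        _ = e⁻¹ * (e * (u⁻¹ * a * u) * (e * (u⁻¹ * a * u))) := by group
        _ = e := by rw [h2, mul_one, h.th.el.inv_eq he]
    have hconj : a * e * a⁻¹ ∈ E := h.th.el.normal.conj_mem e he a
    rw [show u⁻¹ * a * u * e * (u⁻¹ * a * u)⁻¹ = u⁻¹ * (a * (u * e * u⁻¹) * a⁻¹) * u⁻¹⁻¹ by group,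
      El.C_fix hu he, El.C_fix (inv_mem hu) hconj] at h3
    exact mul_inv_eq_iff_eq_mul.1 h3
  obtain ⟨k, hk, hke⟩ := h.realise he hea
  refine ⟨k * u, mul_mem hk hu, ?_⟩
  have hq := h.th.q_mul (c := k) (by rw [hke]; exact he) hu
  rw [hke, ← hy] at hq
  calc k * u * y * a = k * u * (y * a * y⁻¹ * a) * (a⁻¹ * y) := by group
    _ = a * (k * u * y) := by
      rw [← hq]
      simp only [q, h.th.a_inv]
      rw [show k * u * ((k * u)⁻¹ * a * (k * u) * a) * (a * y) = a * (k * u) * (a * a) * y by group, h.th.a2,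
        mul_one, mul_assoc a]

/-- an element of the centralizer fixed modulo `E` -/
theorem fix_two [Finite S] {c : S} (hc : c ∈ centralizer (E : Set S)) (hqc : q a c ∈ E) : c ∈ E ∨ x⁻¹ * c ∈ E := by
  by_cases hcE : c ∈ E
  · exact Or.inl hcE
  have hn : q a c ≠ 1 ∧ q a c ≠ q a e0 :=
    ⟨fun hh => hcE (h.th.fix_mod h.e0E hc (Or.inl hh)), fun hh => hcE (h.th.fix_mod h.e0E hc (Or.inr hh))⟩
  refine Or.inr ?_
  have h1 : x * c ∈ E := by
    refine h.th.fix_mod h.e0E (mul_mem h.xC hc) ?_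
    rw [h.th.q_mul h.qx hc]
    rcases h.th.fixed_cases h.v_mem h.v_fix h.qx (h.th.q_fixed h.qx) h.v1 h.w_ne.1 (Ne.symm h.w_ne.2) hqc
      (h.th.q_fixed hqc) with e | e | e | e
    · exact absurd e hn.1
    · exact absurd e hn.2
    · rw [e, h.th.el.sq _ h.qx]
      exact Or.inl rfl
    · refine Or.inr ?_
      rw [e, h.th.el.comm h.v_mem h.qx, ← mul_assoc, h.th.el.sq _ h.qx, one_mul]
  have h2 := mul_mem (inv_mem h.xx) h1
  rwa [show (x * x)⁻¹ * (x * c) = x⁻¹ * c by group] at h2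

end

end ThreeX

end Cfsg.Agent.SelfCentEight
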